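import Groth.Agent.Lib.TorExt36.Descent
import Mathlib.RingTheory.Noetherian.Basic
import Mathlib.RingTheory.Flat.Basic
import Mathlib.RingTheory.TensorProduct.IsBaseChangePi
import Mathlib.LinearAlgebra.TensorProduct.RightExactness
import Mathlib.RingTheory.Finiteness.Ideal

/-!
# Dividing out torsion in the kernel of a base change map
-/

set_option autoImplicit false
set_option linter.style.haveILetI false

universe u

open TensorProduct

namespace Groth.Agent.H21.NilEtale.Descent

variable {R C G X : Type u} [CommRing R] [IsNoetherianRing R] [CommRing C] [Algebra R C] [Module.Flat R C]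
  (I : Ideal R) (hs : Function.Surjective ((Ideal.Quotient.mk (I.map (algebraMap R C))).comp (algebraMap R C)))
  (hk : RingHom.ker ((Ideal.Quotient.mk (I.map (algebraMap R C))).comp (algebraMap R C)) = I)
  [AddCommGroup G] [Module R G] [Module.Finite R G]
  [AddCommGroup X] [Module R X] [Module C X] [IsScalarTower R C X]

/-- The elements killed by `I ^ k`. -/
def killedBy (k : ℕ) : Submodule R G where
  carrier := {g | ∀ a ∈ I ^ k, a • g = 0}
  zero_mem' := fun a _ => smul_zero a
  add_mem' := fun {g g'} hg hg' a ha => by rw [smul_add, hg a ha, hg' a ha, add_zero]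
  smul_mem' := fun c g hg a ha => by rw [smul_comm, hg a ha, smul_zero]

omit [IsNoetherianRing R] [Module.Finite R G] in
theorem killedBy_mono : Monotone (fun k => killedBy I (G := G) k) :=
  fun _ _ h g hg a ha => hg a (Ideal.pow_le_pow_right h ha)

theorem exists_killedBy_stable : ∃ k, ∀ (n : ℕ) (g : G), (∀ a ∈ I ^ n, a • g = 0) → ∀ a ∈ I ^ k, a • g = 0 := by
  obtain ⟨k, hk⟩ := monotone_stabilizes_iff_noetherian.mpr (inferInstance : IsNoetherian R G)
    ⟨fun k => killedBy I k, killedBy_mono I⟩
  refine ⟨k, fun n g hg => ?_⟩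
  have h1 : g ∈ killedBy I (max n k) := killedBy_mono I (le_max_left n k) hg
  exact (hk _ (le_max_right n k)).ge h1

include hs hk in
/-- Dividing a kernel by its torsion part makes the base change map bijective. -/
theorem exists_quotient (ψ : G →ₗ[R] X) (hsurj : Function.Surjective (ψ.liftBaseChange C))
    (hker : ∀ z, ψ.liftBaseChange C z = 0 → ∃ n, ∀ a ∈ I ^ n, a • z = 0) :
    ∃ (K : Submodule R G) (hK : K ≤ LinearMap.ker ψ), (∃ k, ∀ g ∈ K, ∀ a ∈ I ^ k, a • g = 0) ∧
      Function.Bijective ((Submodule.liftQ K ψ hK).liftBaseChange C) := by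
  classical
  obtain ⟨k, hkst⟩ := exists_killedBy_stable I (G := G)
  let Γ : Submodule R G := killedBy I k
  let K : Submodule R G := LinearMap.ker ψ ⊓ Γ
  refine ⟨K, inf_le_left, ⟨k, fun g hg => hg.2⟩, ?_⟩
  set ψ' := Submodule.liftQ K ψ inf_le_left with hψ'
  have hcomp : (ψ'.liftBaseChange C).restrictScalars R ∘ₗ K.mkQ.lTensor C = (ψ.liftBaseChange C).restrictScalars R := by
    refine TensorProduct.ext' fun c g => ?_
    simp [hψ']
  have hcomp' : ∀ z, ψ'.liftBaseChange C (K.mkQ.lTensor C z) = ψ.liftBaseChange C z := LinearMap.congr_fun hcomp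
  refine ⟨?_, fun x => ?_⟩
  · rw [injective_iff_map_eq_zero]
    intro y hy
    obtain ⟨z, rfl⟩ := LinearMap.lTensor_surjective C K.mkQ_surjective y
    rw [hcomp'] at hy
    obtain ⟨n, hn⟩ := hker z hy
    -- `G/Γ` has no torsion, also after base change
    obtain ⟨p, a, ha⟩ := Submodule.fg_iff_exists_fin_generating_family.mp (IsNoetherian.noetherian I)
    let μ : (G ⧸ Γ) →ₗ[R] (Fin p → G ⧸ Γ) := LinearMap.pi fun i => a i • LinearMap.id
    have hμ : Function.Injective μ := by
      rw [injective_iff_map_eq_zero]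
      intro q hq
      obtain ⟨g, rfl⟩ := Γ.mkQ_surjective q
      refine (Submodule.Quotient.mk_eq_zero Γ).mpr (hkst (k + 1) g fun b hb => ?_)
      rw [pow_succ] at hb
      refine Submodule.mul_induction_on hb (fun u hu v hv => ?_) (fun u v hu hv => by rw [add_smul, hu, hv, add_zero])
      rw [mul_smul]
      have hv' : v • g ∈ Γ := by
        rw [← ha] at hv
        obtain ⟨c, rfl⟩ := (Submodule.mem_span_range_iff_exists_fun R).mp hv
        rw [Finset.sum_smul]
        refine sum_mem fun i _ => ?_
        rw [smul_assoc]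
        refine Γ.smul_mem _ ((Submodule.Quotient.mk_eq_zero Γ).mp ?_)
        have := congrFun hq i
        simpa [μ] using this
      exact hv' u hu
    have htf : ∀ w : C ⊗[R] (G ⧸ Γ), (∀ i, a i • w = 0) → w = 0 := by
      intro w hw
      refine Module.Flat.lTensor_preserves_injective_linearMap μ hμ ?_
      rw [map_zero]
      apply (TensorProduct.piRight R R C (fun _ : Fin p => G ⧸ Γ)).injective
      rw [map_zero]
      funext i
      rw [Pi.zero_apply]
      refine Eq.trans ?_ (hw i)
      generalize w = w'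
      induction w' using TensorProduct.induction_on with
      | zero => simp
      | tmul c q => simp [μ]
      | add u v hu hv => simp only [map_add, Pi.add_apply, hu, hv, smul_add]
    have hz0 : ∀ m, ∀ w : C ⊗[R] (G ⧸ Γ), (∀ b ∈ I ^ m, b • w = 0) → w = 0 := by
      intro m
      induction m with
      | zero => intro w hw; simpa using hw 1 (by simp)
      | succ m ih =>
        intro w hw
        refine ih w fun b hb => htf _ fun i => ?_
        rw [smul_smul]
        refine hw _ ?_
        rw [pow_succ']
        exact Ideal.mul_mem_mul (ha ▸ Submodule.subset_span ⟨i, rfl⟩) hb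
    have h1 : Γ.mkQ.lTensor C z = 0 := hz0 n _ fun b hb => by rw [← map_smul, hn b hb, map_zero]
    obtain ⟨w, hw⟩ := (lTensor_exact C (LinearMap.exact_subtype_mkQ Γ) Γ.mkQ_surjective z).mp h1
    obtain ⟨g, hg⟩ := (Groth.Agent.Lib.TorExt36.Descent.bijective_of_pow_killed hs hk k Γ
      (fun b hb g => Subtype.ext (g.2 b hb))).2 w
    have hz : z = (1 : C) ⊗ₜ[R] (g : G) := by
      rw [← hw, ← hg]; rfl
    rw [hz, LinearMap.liftBaseChange_tmul, one_smul] at hy
    rw [hz, LinearMap.lTensor_tmul, show K.mkQ (g : G) = 0 from (Submodule.Quotient.mk_eq_zero K).mpr ⟨hy, g.2⟩,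
      tmul_zero]
  · obtain ⟨z, hz⟩ := hsurj x
    exact ⟨K.mkQ.lTensor C z, by rw [hcomp', hz]⟩

end Groth.Agent.H21.NilEtale.Descent
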