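import Groth.Agent.H21.NilEtale.Sq
import Mathlib.RingTheory.TensorProduct.Quotient

/-!
# Lifting approximations along nilpotent ideals

The square zero case is `Sq.exists_lift_sq`; the general case follows by induction on the exponent.
-/

set_option autoImplicit false
set_option linter.style.haveILetI false

universe u

open TensorProduct

namespace Groth.Agent.H21.NilEtale.Ind

/-- The reduction of an étale algebra is étale. -/
theorem etale_quot {R : Type u} [CommRing R] (I : Ideal R) (S : Type u) [CommRing S] [Algebra R S]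
    [Algebra.Etale R S] : Algebra.Etale (R ⧸ I) (S ⧸ I.map (algebraMap R S)) :=
  Algebra.Etale.of_equiv (Algebra.TensorProduct.quotIdealMapEquivQuotTensor S I).symm

/-- Reduction commutes with inverting an element of the base. -/
theorem etale_away_of_surjective {A : Type u} [CommRing A] (J : Ideal A) (S : Type u) [CommRing S]
    [Algebra A S] (T : Type u) [CommRing T] [Algebra A T] [Algebra (A ⧸ J) T]
    [IsScalarTower A (A ⧸ J) T] (π : S →ₐ[A] T) (hπ : Function.Surjective π)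
    (hker : RingHom.ker π.toRingHom ≤ J.map (algebraMap A S)) (a : A)
    [Algebra.Etale A (Localization.Away (algebraMap A S a))] :
    Algebra.Etale (A ⧸ J) (Localization.Away (algebraMap A T a)) := by
  let Sa := Localization.Away (algebraMap A S a)
  let Ta := Localization.Away (algebraMap A T a)
  let ι : T →ₐ[A] Ta := IsScalarTower.toAlgHom A T Ta
  let r' : Sa →ₐ[A] Ta := IsLocalization.liftAlgHom (M := Submonoid.powers (algebraMap A S a)) (f := ι.comp π) (by
    rintro ⟨_, m, rfl⟩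
    show IsUnit (ι (π (algebraMap A S a ^ m)))
    rw [map_pow, map_pow, AlgHom.commutes]
    exact (IsLocalization.Away.algebraMap_isUnit (S := Ta) (algebraMap A T a)).pow m)
  have hr : ∀ b, r' (algebraMap S Sa b) = ι (π b) := fun b => IsLocalization.lift_eq _ _
  let JS : Ideal Sa := J.map (algebraMap A Sa)
  have hJT : ∀ j ∈ J, algebraMap A T j = 0 := fun j hj => by
    rw [IsScalarTower.algebraMap_apply A (A ⧸ J) T, Ideal.Quotient.algebraMap_eq,
      Ideal.Quotient.eq_zero_iff_mem.mpr hj, map_zero]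
  have hrJ : ∀ x ∈ JS, r' x = 0 := by
    intro x hx
    have : JS ≤ RingHom.ker r' := Ideal.map_le_iff_le_comap.mpr fun j hj => by
      rw [Ideal.mem_comap, RingHom.mem_ker, AlgHom.commutes,
        IsScalarTower.algebraMap_apply A T Ta, hJT j hj, map_zero]
    exact this hx
  let qe : (Sa ⧸ JS) →ₐ[A] Ta := Ideal.Quotient.liftₐ JS r' hrJ
  have hqe : Function.Bijective qe := by
    refine ⟨(injective_iff_map_eq_zero qe).mpr fun x hx => ?_, fun b => ?_⟩
    · obtain ⟨x, rfl⟩ := Ideal.Quotient.mk_surjective x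
      obtain ⟨⟨u, ⟨_, m, rfl⟩⟩, hu⟩ := IsLocalization.surj (Submonoid.powers (algebraMap A S a)) x
      have h1 : ι (π u) = 0 := by
        rw [← hr, ← hu, map_mul, show r' x = 0 from hx, zero_mul]
      obtain ⟨⟨_, m', rfl⟩, hm'⟩ := (IsLocalization.map_eq_zero_iff (Submonoid.powers (algebraMap A T a)) Ta _).mp h1
      have h2 : algebraMap A S a ^ m' * u ∈ J.map (algebraMap A S) := by
        refine hker (RingHom.mem_ker.mpr ?_)
        show π (algebraMap A S a ^ m' * u) = 0
        rw [map_mul, map_pow, AlgHom.commutes]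
        exact hm'
      have h3' : algebraMap S Sa (algebraMap A S a ^ m' * u) ∈ JS := by
        have := Ideal.mem_map_of_mem (algebraMap S Sa) h2
        rwa [Ideal.map_map, ← IsScalarTower.algebraMap_eq] at this
      rw [map_mul, map_pow, ← hu] at h3'
      have hun := IsLocalization.Away.algebraMap_isUnit (S := Sa) (algebraMap A S a)
      rw [Ideal.unit_mul_mem_iff_mem _ (hun.pow m')] at h3'
      exact Ideal.Quotient.eq_zero_iff_mem.mpr
        ((Ideal.mul_unit_mem_iff_mem _ (IsLocalization.map_units Sa (⟨_, m, rfl⟩ : Submonoid.powers (algebraMap A S a)))).mp h3')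
    · obtain ⟨⟨u, ⟨_, m, rfl⟩⟩, hu⟩ := IsLocalization.surj (Submonoid.powers (algebraMap A T a)) b
      obtain ⟨u, rfl⟩ := hπ u
      obtain ⟨inv, hinv⟩ := (IsLocalization.Away.algebraMap_isUnit (S := Sa) (algebraMap A S a)).pow m |>.exists_right_inv
      refine ⟨Ideal.Quotient.mk JS (algebraMap S Sa u * inv), ?_⟩
      show r' (algebraMap S Sa u * inv) = b
      have h1 : ι (algebraMap A T a) ^ m * r' inv = 1 := by
        have := congrArg r' hinv
        rwa [map_mul, map_pow, hr, map_one, AlgHom.commutes] at this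
      rw [map_mul, hr, show ι (π u) = b * algebraMap T Ta (algebraMap A T a ^ m) from hu.symm, map_pow,
        show algebraMap T Ta (algebraMap A T a) = ι (algebraMap A T a) from rfl, mul_assoc, h1, mul_one]
  let q : (Sa ⧸ JS) ≃ₐ[A] Ta := AlgEquiv.ofBijective qe hqe
  let q' : (Sa ⧸ JS) ≃ₐ[A ⧸ J] Ta := AlgEquiv.ofRingEquiv (f := q.toRingEquiv) (fun x => by
    obtain ⟨x, rfl⟩ := Ideal.Quotient.mk_surjective x
    exact (q.commutes x).trans (IsScalarTower.algebraMap_apply A (A ⧸ J) Ta x))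
  haveI : Algebra.Etale (A ⧸ J) (Sa ⧸ JS) := etale_quot J Sa
  exact Algebra.Etale.of_equiv q'

/-- The two congruence conditions propagate along a nilpotent ideal. -/
theorem bijective_mod {A : Type u} [CommRing A] (I J : Ideal A) (hJ : IsNilpotent J)
    (B₁ : Type u) [CommRing B₁] [Algebra A B₁] (C₁ : Type u) [CommRing C₁] [Algebra A C₁]
    [Algebra B₁ C₁] [IsScalarTower A B₁ C₁] [Algebra.Etale B₁ C₁]
    (B₀ : Type u) [CommRing B₀] [Algebra A B₀] (C₀ : Type u) [CommRing C₀] [Algebra A C₀]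
    (p : B₁ →ₐ[A] B₀) (hp : Function.Surjective p) (hkp : RingHom.ker p.toRingHom ≤ J.map (algebraMap A B₁))
    (c : C₁ →ₐ[A] C₀) (hc : Function.Surjective c) (hkc : RingHom.ker c.toRingHom ≤ J.map (algebraMap A C₁))
    (g : B₀ →ₐ[A] C₀) (hcomp : ∀ b, g (p b) = c (algebraMap B₁ C₁ b))
    (h3 : (∀ y : C₀, ∃ b : B₀, g b - y ∈ I.map (algebraMap A C₀)) ∧
      ∀ b : B₀, g b ∈ I.map (algebraMap A C₀) → b ∈ I.map (algebraMap A B₀)) :
    (∀ y : C₁, ∃ b : B₁, algebraMap B₁ C₁ b - y ∈ I.map (algebraMap A C₁)) ∧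
      ∀ b : B₁, algebraMap B₁ C₁ b ∈ I.map (algebraMap A C₁) → b ∈ I.map (algebraMap A B₁) := by
  have hIB : (I.map (algebraMap A B₁)).map p.toRingHom = I.map (algebraMap A B₀) := by
    rw [Ideal.map_map, AlgHom.toRingHom_eq_coe, p.comp_algebraMap]
  have hIC : (I.map (algebraMap A C₁)).map c.toRingHom = I.map (algebraMap A C₀) := by
    rw [Ideal.map_map, AlgHom.toRingHom_eq_coe, c.comp_algebraMap]
  obtain ⟨m, hm⟩ := hJ
  -- surjectivity
  let N : Submodule A C₁ :=
    LinearMap.range (IsScalarTower.toAlgHom A B₁ C₁).toLinearMap ⊔ (I.map (algebraMap A C₁)).restrictScalars A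
  have hsurj : ⊤ ≤ N := by
    have h1 : ∀ y : C₁, y ∈ N ⊔ J • (⊤ : Submodule A C₁) := by
      intro y
      obtain ⟨b₀, hb₀⟩ := h3.1 (c y)
      obtain ⟨b, rfl⟩ := hp b₀
      rw [hcomp, ← map_sub, ← hIC] at hb₀
      obtain ⟨z, hz, hze⟩ := (Ideal.mem_map_iff_of_surjective _ hc).mp hb₀
      have h2 : algebraMap B₁ C₁ b - y - z ∈ (J.map (algebraMap A C₁)).restrictScalars A := hkc (by
        rw [RingHom.mem_ker, map_sub, sub_eq_zero]
        exact hze.symm)
      rw [← Ideal.smul_top_eq_map] at h2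
      have h4 : y = (algebraMap B₁ C₁ b + -z) - (algebraMap B₁ C₁ b - y - z) := by ring
      rw [h4]
      exact sub_mem (Submodule.mem_sup_left (add_mem (Submodule.mem_sup_left ⟨b, rfl⟩)
        (neg_mem (Submodule.mem_sup_right hz)))) (Submodule.mem_sup_right h2)
    have h2 : ∀ k, (⊤ : Submodule A C₁) ≤ N ⊔ J ^ k • ⊤ := by
      intro k
      induction k with
      | zero =>
        rw [pow_zero, Ideal.one_eq_top, Submodule.top_smul]
        exact le_sup_right
      | succ k ih =>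
        refine ih.trans (sup_le le_sup_left ?_)
        refine (Submodule.smul_mono le_rfl (fun y _ => h1 y)).trans ?_
        rw [Submodule.smul_sup, ← Submodule.mul_smul, ← pow_succ]
        exact sup_le (Submodule.smul_le_right.trans le_sup_left) le_sup_right
    simpa [hm] using h2 m
  refine ⟨fun y => ?_, ?_⟩
  · obtain ⟨u, ⟨b, rfl⟩, z, hz, hy⟩ := Submodule.mem_sup.mp (hsurj (Submodule.mem_top (x := y)))
    refine ⟨b, ?_⟩
    rw [← hy]
    show algebraMap B₁ C₁ b - (algebraMap B₁ C₁ b + z) ∈ _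
    rw [sub_add_cancel_left]
    exact neg_mem hz
  -- injectivity
  let IB := I.map (algebraMap A B₁)
  let R := B₁ ⧸ IB
  let S := C₁ ⧸ IB.map (algebraMap B₁ C₁)
  haveI : Algebra.Etale R S := etale_quot IB C₁
  have hIBC : IB.map (algebraMap B₁ C₁) = I.map (algebraMap A C₁) := by
    rw [Ideal.map_map, ← IsScalarTower.algebraMap_eq]
  have hs : Function.Surjective (algebraMap R S) := by
    intro y
    obtain ⟨y, rfl⟩ := Ideal.Quotient.mk_surjective y
    obtain ⟨u, ⟨b, rfl⟩, z, hz, hy⟩ := Submodule.mem_sup.mp (hsurj (Submodule.mem_top (x := y)))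
    refine ⟨Ideal.Quotient.mk IB b, ?_⟩
    show Ideal.Quotient.mk _ (algebraMap B₁ C₁ b) = _
    rw [Ideal.Quotient.eq, ← hy]
    show algebraMap B₁ C₁ b - (algebraMap B₁ C₁ b + z) ∈ _
    rw [sub_add_cancel_left, hIBC]
    exact neg_mem hz
  let K := RingHom.ker (algebraMap R S)
  have hid : IsIdempotentElem K :=
    (Algebra.FormallyEtale.iff_of_surjective hs).mp inferInstance
  have hKJ : K ≤ (J.map (algebraMap A B₁)).map (Ideal.Quotient.mk IB) := by
    intro x hx
    obtain ⟨b, rfl⟩ := Ideal.Quotient.mk_surjective x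
    have h1 : algebraMap B₁ C₁ b ∈ I.map (algebraMap A C₁) := hIBC ▸ Ideal.Quotient.eq_zero_iff_mem.mp hx
    have h2 := Ideal.mem_map_of_mem c.toRingHom h1
    rw [hIC] at h2
    have h4 := h3.2 (p b) ((hcomp b).symm ▸ h2)
    rw [← hIB] at h4
    obtain ⟨z, hz, hze⟩ := (Ideal.mem_map_iff_of_surjective _ hp).mp h4
    have h5 : b - z ∈ J.map (algebraMap A B₁) := hkp (by
      rw [RingHom.mem_ker, map_sub, sub_eq_zero]
      exact hze.symm)
    have h6 := Ideal.mem_map_of_mem (Ideal.Quotient.mk IB) h5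
    rwa [map_sub, Ideal.Quotient.eq_zero_iff_mem.mpr hz, sub_zero] at h6
  intro b hb
  have h1 : Ideal.Quotient.mk IB b ∈ K := Ideal.Quotient.eq_zero_iff_mem.mpr (hIBC.symm ▸ hb)
  have h2 : K ≤ ⊥ := by
    have h3' : K ^ (m + 1) ≤ ((J.map (algebraMap A B₁)).map (Ideal.Quotient.mk IB)) ^ (m + 1) :=
      Ideal.pow_right_mono hKJ _
    rw [hid.pow_succ_eq, ← Ideal.map_pow, ← Ideal.map_pow, pow_succ, hm] at h3'
    simpa using h3'
  exact Ideal.Quotient.eq_zero_iff_mem.mp (Ideal.mem_bot.mp (h2 h1))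

set_option maxHeartbeats 800000 in
/-- Approximations lift along an ideal with `J ^ n = ⊥`. -/
theorem exists_lift (n : ℕ) : ∀ (A : Type u) [CommRing A] [IsNoetherianRing A] (I J : Ideal A), J ^ n = ⊥ →
    ∀ (C : Type u) [CommRing C] [Algebra A C] [Algebra.FiniteType A C]
    (_ : ∀ a ∈ I, Algebra.Etale A (Localization.Away (algebraMap A C a)))
    (B₀ : Type u) [CommRing B₀] [Algebra A B₀] [Algebra (A ⧸ J) B₀] [IsScalarTower A (A ⧸ J) B₀]
    [Algebra.FiniteType (A ⧸ J) B₀]
    (_ : ∀ a ∈ I, Algebra.Etale (A ⧸ J) (Localization.Away (algebraMap A B₀ a)))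
    [Algebra B₀ (C ⧸ J.map (algebraMap A C))] [IsScalarTower A B₀ (C ⧸ J.map (algebraMap A C))]
    [Algebra.Etale B₀ (C ⧸ J.map (algebraMap A C))]
    (_ : (∀ c : (C ⧸ J.map (algebraMap A C)), ∃ b : B₀, algebraMap B₀ (C ⧸ J.map (algebraMap A C)) b - c ∈ I.map (algebraMap A (C ⧸ J.map (algebraMap A C)))) ∧ ∀ b : B₀, algebraMap B₀ (C ⧸ J.map (algebraMap A C)) b ∈ I.map (algebraMap A (C ⧸ J.map (algebraMap A C))) → b ∈ I.map (algebraMap A B₀)),
    ∃ (B : Type u) (_ : CommRing B) (_ : Algebra A B) (_ : Algebra B C) (_ : IsScalarTower A B C) (_ : Algebra B B₀) (_ : IsScalarTower A B B₀), Algebra.FiniteType A B ∧ Algebra.Etale B C ∧ (∀ a ∈ I, Algebra.Etale A (Localization.Away (algebraMap A B a))) ∧ Function.Surjective (algebraMap B B₀) ∧ RingHom.ker (algebraMap B B₀) = J.map (algebraMap A B) ∧ ∀ b : B, algebraMap B₀ (C ⧸ J.map (algebraMap A C)) (algebraMap B B₀ b) = Ideal.Quotient.mk (J.map (algebraMap A C)) (algebraMap B C b) := by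
  induction n with
  | zero =>
    intro A _ _ I J hJ
    intros
    refine Sq.exists_lift_sq A I J ?_ _ ‹_› _ ‹_› ‹_›
    rw [pow_zero, Ideal.one_eq_top] at hJ
    rw [eq_bot_iff]
    exact le_top.trans hJ.le
  | succ k IH =>
    intro A _ _ I J hJ C _ _ _ hC B₀ _ _ _ _ _ hB₀ _ _ _ h3
    rcases Nat.lt_or_ge k 2 with hk | hk
    · refine Sq.exists_lift_sq A I J ?_ C hC B₀ hB₀ h3
      rw [eq_bot_iff, ← hJ, ← pow_two]
      exact Ideal.pow_le_pow_right (by omega)
    -- pass to `A / J ^ k`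
    let J₁ := J ^ k
    have hJ₁ : J₁ * J₁ = ⊥ := by
      rw [eq_bot_iff, ← hJ, ← pow_add]
      exact Ideal.pow_le_pow_right (by omega)
    have hle : J₁ ≤ J := Ideal.pow_le_self (by omega)
    let A₁ := A ⧸ J₁
    let mA : A →+* A₁ := Ideal.Quotient.mk J₁
    let J' : Ideal A₁ := J.map mA
    let I' : Ideal A₁ := I.map mA
    have hJ' : J' ^ k = ⊥ := by
      rw [← Ideal.map_pow]
      exact Ideal.map_quotient_self _
    let C₁ := C ⧸ J₁.map (algebraMap A C)
    haveI : IsScalarTower A A₁ C₁ := inferInstance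
    haveI : Algebra.FiniteType A C₁ := Algebra.FiniteType.of_surjective (Ideal.Quotient.mkₐ A _) Ideal.Quotient.mk_surjective
    haveI : Algebra.FiniteType A₁ C₁ := Algebra.FiniteType.of_restrictScalars_finiteType A A₁ C₁
    have hmem : ∀ x ∈ I', ∃ a ∈ I, mA a = x := fun x hx =>
      (Ideal.mem_map_iff_of_surjective mA Ideal.Quotient.mk_surjective).mp hx
    have hC₁ : ∀ x ∈ I', Algebra.Etale A₁ (Localization.Away (algebraMap A₁ C₁ x)) := by
      intro x hx
      obtain ⟨a, ha, rfl⟩ := hmem x hx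
      haveI := hC a ha
      exact etale_away_of_surjective J₁ C C₁ (Ideal.Quotient.mkₐ A _) Ideal.Quotient.mk_surjective
        (fun z hz => Ideal.Quotient.eq_zero_iff_mem.mp hz) a
    -- structures on `B₀`
    have hJ₁B₀ : ∀ j ∈ J₁, algebraMap A B₀ j = 0 := fun j hj => by
      rw [IsScalarTower.algebraMap_apply A (A ⧸ J) B₀, Ideal.Quotient.algebraMap_eq,
        Ideal.Quotient.eq_zero_iff_mem.mpr (hle hj), map_zero]
    letI : Algebra A₁ B₀ := (Ideal.Quotient.lift J₁ (algebraMap A B₀) hJ₁B₀).toAlgebra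
    haveI : IsScalarTower A A₁ B₀ := IsScalarTower.of_algebraMap_eq fun _ => rfl
    have hJ'B₀ : ∀ x ∈ J', algebraMap A₁ B₀ x = 0 := fun x hx => by
      obtain ⟨j, hj, rfl⟩ := (Ideal.mem_map_iff_of_surjective mA Ideal.Quotient.mk_surjective).mp hx
      show algebraMap A B₀ j = 0
      rw [IsScalarTower.algebraMap_apply A (A ⧸ J) B₀, Ideal.Quotient.algebraMap_eq,
        Ideal.Quotient.eq_zero_iff_mem.mpr hj, map_zero]
    letI : Algebra (A₁ ⧸ J') B₀ := (Ideal.Quotient.lift J' (algebraMap A₁ B₀) hJ'B₀).toAlgebra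
    haveI : IsScalarTower A₁ (A₁ ⧸ J') B₀ := IsScalarTower.of_algebraMap_eq (R := A₁) (S := A₁ ⧸ J') (A := B₀) fun _ => rfl
    haveI : IsScalarTower A (A₁ ⧸ J') B₀ := IsScalarTower.of_algebraMap_eq (R := A) (S := A₁ ⧸ J') (A := B₀)
      fun _ => rfl
    haveI : Algebra.FiniteType A B₀ := Algebra.FiniteType.trans (S := A ⧸ J) inferInstance inferInstance
    haveI : Algebra.FiniteType (A₁ ⧸ J') B₀ := Algebra.FiniteType.of_restrictScalars_finiteType A (A₁ ⧸ J') B₀
    let eA : (A ⧸ J) →+* A₁ ⧸ J' := Ideal.Quotient.lift J ((Ideal.Quotient.mk J').comp mA)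
      (fun j hj => Ideal.Quotient.eq_zero_iff_mem.mpr (Ideal.mem_map_of_mem _ hj))
    have heA : Function.Bijective eA := by
      refine ⟨(injective_iff_map_eq_zero eA).mpr fun x hx => ?_, fun y => ?_⟩
      · obtain ⟨x, rfl⟩ := Ideal.Quotient.mk_surjective x
        have h1 : mA x ∈ J' := Ideal.Quotient.eq_zero_iff_mem.mp hx
        obtain ⟨j, hj, hjx⟩ := (Ideal.mem_map_iff_of_surjective mA Ideal.Quotient.mk_surjective).mp h1
        refine Ideal.Quotient.eq_zero_iff_mem.mpr ?_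
        have h2 := hle (Ideal.Quotient.eq.mp hjx)
        have := sub_mem hj h2
        simpa using this
      · obtain ⟨y, rfl⟩ := Ideal.Quotient.mk_surjective y
        obtain ⟨y, rfl⟩ := Ideal.Quotient.mk_surjective y
        exact ⟨Ideal.Quotient.mk J y, rfl⟩
    letI : Algebra (A ⧸ J) (A₁ ⧸ J') := eA.toAlgebra
    haveI : Algebra.Etale (A ⧸ J) (A₁ ⧸ J') := by
      rw [← RingHom.etale_algebraMap]
      exact @RingHom.Etale.of_bijective (A ⧸ J) (A₁ ⧸ J') _ _ _ heA
    haveI : IsScalarTower (A ⧸ J) (A₁ ⧸ J') B₀ := IsScalarTower.of_algebraMap_eq fun x => by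
      obtain ⟨x, rfl⟩ := Ideal.Quotient.mk_surjective x
      exact (IsScalarTower.algebraMap_apply A (A ⧸ J) B₀ x).symm.trans rfl
    have hB₀' : ∀ x ∈ I', Algebra.Etale (A₁ ⧸ J') (Localization.Away (algebraMap A₁ B₀ x)) := by
      intro x hx
      obtain ⟨a, ha, rfl⟩ := hmem x hx
      haveI : Algebra.Etale (A ⧸ J) (Localization.Away (algebraMap A₁ B₀ (mA a))) := hB₀ a ha
      exact Algebra.Etale.of_restrictScalars (A ⧸ J) (A₁ ⧸ J') (Localization.Away (algebraMap A₁ B₀ (mA a)))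
    -- the target `C₁ / J' C₁`
    let C₀ := C ⧸ J.map (algebraMap A C)
    let C₀' := C₁ ⧸ J'.map (algebraMap A₁ C₁)
    have hJC₁ : J'.map (algebraMap A₁ C₁) = (J.map (algebraMap A C)).map (Ideal.Quotient.mk (J₁.map (algebraMap A C))) := by
      rw [Ideal.map_map, Ideal.map_map]
      rfl
    let eC : C₀ ≃+* C₀' := (DoubleQuot.quotQuotEquivQuotOfLE (Ideal.map_mono hle)).symm.trans
      (Ideal.quotEquivOfEq hJC₁.symm)
    have heC : ∀ x : C, eC (Ideal.Quotient.mk _ x) = Ideal.Quotient.mk _ (Ideal.Quotient.mk _ x) := fun x => rfl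
    let g' : B₀ →+* C₀' := eC.toRingHom.comp (algebraMap B₀ C₀)
    letI : Algebra B₀ C₀' := g'.toAlgebra
    have hg' : ∀ b, algebraMap B₀ C₀' b = eC (algebraMap B₀ C₀ b) := fun b => rfl
    haveI : IsScalarTower A₁ B₀ C₀' := IsScalarTower.of_algebraMap_eq fun x => by
      obtain ⟨x, rfl⟩ := Ideal.Quotient.mk_surjective x
      rw [hg']
      show _ = eC (algebraMap B₀ C₀ (algebraMap A B₀ x))
      rw [← IsScalarTower.algebraMap_apply A B₀ C₀, IsScalarTower.algebraMap_apply A C C₀,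
        Ideal.Quotient.algebraMap_eq, heC]
      rfl
    haveI : Algebra.Etale B₀ C₀' := Algebra.Etale.of_equiv
      (AlgEquiv.ofRingEquiv (f := eC) (fun b => rfl) : C₀ ≃ₐ[B₀] C₀')
    have hI'B₀ : I'.map (algebraMap A₁ B₀) = I.map (algebraMap A B₀) := by
      rw [Ideal.map_map]; rfl
    have hI'C : I'.map (algebraMap A₁ C₀') = (I.map (algebraMap A C₀)).map eC.toRingHom := by
      refine (Ideal.map_map _ _).trans (Eq.trans ?_ (Ideal.map_map _ _).symm)
      exact congrArg (Ideal.map · I) (RingHom.ext fun x => rfl)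
    have hmemC : ∀ y : C₀, eC y ∈ I'.map (algebraMap A₁ C₀') ↔ y ∈ I.map (algebraMap A C₀) := fun y => by
      rw [hI'C]
      refine ⟨fun h => ?_, Ideal.mem_map_of_mem _⟩
      obtain ⟨z, hz, hze⟩ := (Ideal.mem_map_iff_of_surjective eC.toRingHom eC.surjective).mp h
      exact eC.injective hze ▸ hz
    have h3' : (∀ c : C₀', ∃ b : B₀, algebraMap B₀ C₀' b - c ∈ I'.map (algebraMap A₁ C₀')) ∧
        ∀ b : B₀, algebraMap B₀ C₀' b ∈ I'.map (algebraMap A₁ C₀') → b ∈ I'.map (algebraMap A₁ B₀) := by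
      refine ⟨fun y => ?_, fun b hb => ?_⟩
      · obtain ⟨y, rfl⟩ := eC.surjective y
        obtain ⟨b, hb⟩ := h3.1 y
        refine ⟨b, ?_⟩
        rw [hg', ← map_sub, hmemC]
        exact hb
      · rw [hg', hmemC] at hb
        rw [hI'B₀]
        exact h3.2 b hb
    obtain ⟨B₁, _, _, _, _, _, _, hft, het, hBa, hsur, hker, hcompat⟩ :=
      IH A₁ I' J' hJ' C₁ hC₁ B₀ hB₀' h3'
    -- back over `A`
    letI : Algebra A B₁ := ((algebraMap A₁ B₁).comp mA).toAlgebra
    haveI : IsScalarTower A A₁ B₁ := IsScalarTower.of_algebraMap_eq fun _ => rfl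
    haveI : IsScalarTower A B₁ C₁ := IsScalarTower.of_algebraMap_eq fun x =>
      (IsScalarTower.algebraMap_apply A A₁ C₁ x).trans (IsScalarTower.algebraMap_apply A₁ B₁ C₁ _)
    haveI : IsScalarTower A B₁ B₀ := IsScalarTower.of_algebraMap_eq fun x =>
      (IsScalarTower.algebraMap_apply A A₁ B₀ x).trans (IsScalarTower.algebraMap_apply A₁ B₁ B₀ _)
    haveI := hft
    haveI := het
    have hJ'B₁ : J'.map (algebraMap A₁ B₁) = J.map (algebraMap A B₁) := by
      rw [Ideal.map_map]; rfl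
    have hcompat' : ∀ b, algebraMap B₀ C₀ (algebraMap B₁ B₀ b) =
        eC.symm (Ideal.Quotient.mk _ (algebraMap B₁ C₁ b)) := fun b => by
      rw [← hcompat b, hg', RingEquiv.symm_apply_apply]
    let πC : C₁ →ₐ[A] C₀ := Ideal.Quotient.factorₐ A (Ideal.map_mono hle)
    have hπC : ∀ x, πC x = eC.symm (Ideal.Quotient.mk _ x) := fun x => by
      obtain ⟨x, rfl⟩ := Ideal.Quotient.mk_surjective x
      rw [← heC, RingEquiv.symm_apply_apply]
      rfl
    have h31 := bijective_mod I J ⟨k + 1, hJ⟩ B₁ C₁ B₀ C₀ (IsScalarTower.toAlgHom A B₁ B₀) hsur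
      (by
        intro x hx
        rw [← hJ'B₁, ← hker]
        exact hx)
      πC (fun y => by
        obtain ⟨x, rfl⟩ := Ideal.Quotient.mk_surjective y
        exact ⟨Ideal.Quotient.mk _ x, rfl⟩)
      (fun x hx => by
        obtain ⟨x, rfl⟩ := Ideal.Quotient.mk_surjective x
        rw [IsScalarTower.algebraMap_eq A C C₁, ← Ideal.map_map]
        exact Ideal.mem_map_of_mem _ (Ideal.Quotient.eq_zero_iff_mem.mp hx))
      (IsScalarTower.toAlgHom A B₀ C₀)
      (fun b => by
        show algebraMap B₀ C₀ (algebraMap B₁ B₀ b) = πC (algebraMap B₁ C₁ b)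
        rw [hcompat', hπC]) h3
    have hBa' : ∀ a ∈ I, Algebra.Etale (A ⧸ J₁) (Localization.Away (algebraMap A B₁ a)) := fun a ha =>
      hBa (mA a) (Ideal.mem_map_of_mem _ ha)
    obtain ⟨B, _, _, _, _, _, _, hBft, hBet, hBa₂, hBsur, hBker, hBcompat⟩ :=
      Sq.exists_lift_sq A I J₁ hJ₁ C hC B₁ hBa' h31
    letI : Algebra B B₀ := ((algebraMap B₁ B₀).comp (algebraMap B B₁)).toAlgebra
    haveI : IsScalarTower A B B₀ := IsScalarTower.of_algebraMap_eq fun x => by
      show _ = algebraMap B₁ B₀ (algebraMap B B₁ (algebraMap A B x))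
      rw [← IsScalarTower.algebraMap_apply A B B₁, ← IsScalarTower.algebraMap_apply A B₁ B₀]
    refine ⟨B, inferInstance, inferInstance, inferInstance, inferInstance, inferInstance, inferInstance,
      hBft, hBet, hBa₂, hsur.comp hBsur, ?_, fun b => ?_⟩
    · have h1 : J.map (algebraMap A B₁) = (J.map (algebraMap A B)).map (algebraMap B B₁) := by
        rw [Ideal.map_map, ← IsScalarTower.algebraMap_eq]
      have h2 : RingHom.ker (algebraMap B B₀) = (J.map (algebraMap A B₁)).comap (algebraMap B B₁) := by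
        rw [← hJ'B₁, ← hker, RingHom.comap_ker]
        rfl
      rw [h2, h1, Ideal.comap_map_of_surjective' _ hBsur, hBker, sup_eq_left]
      exact Ideal.map_mono hle
    · show algebraMap B₀ C₀ (algebraMap B₁ B₀ (algebraMap B B₁ b)) = _
      rw [hcompat', hBcompat, ← hπC]
      rfl

end Groth.Agent.H21.NilEtale.Ind
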