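import Mathlib.RingTheory.Flat.Basic
import Mathlib.RingTheory.TensorProduct.IsBaseChangePi
import Mathlib.LinearAlgebra.TensorProduct.Finiteness
import Mathlib.LinearAlgebra.TensorProduct.RightExactness

/-!
# Solutions of linear systems over a flat extension
-/

set_option autoImplicit false
set_option linter.style.haveILetI false

universe u v

open TensorProduct

namespace Groth.Agent.H21.NilEtale.SolSystem

variable {R C M X : Type u} [CommRing R] [CommRing C] [Algebra R C] [AddCommGroup M] [Module R M]
  [AddCommGroup X] [Module R X] [Module C X] [IsScalarTower R C X]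

/-- The linear system with coefficients `W` and constant vectors `w`. -/
noncomputable def sys {σ : Type v} [Fintype σ] {τ : Type v} (W : τ → σ → R) (w : τ → M) :
    (R × (σ → M)) →ₗ[R] (τ → M) :=
  LinearMap.pi fun i =>
    (LinearMap.fst R R (σ → M)).smulRight (w i) +
      (∑ t, W i t • (LinearMap.proj t : (σ → M) →ₗ[R] M)).comp (LinearMap.snd R R (σ → M))

theorem sys_apply {σ : Type v} [Fintype σ] {τ : Type v} (W : τ → σ → R) (w : τ → M)
    (l : R) (v : σ → M) (i : τ) : sys W w (l, v) i = l • w i + ∑ t, W i t • v t := by
  simp [sys, LinearMap.sum_apply]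

/-- Solutions over a flat extension are combinations of solutions. -/
theorem exists_solutions [Module.Flat R C] (ψ : M →ₗ[R] X) (hψ : Function.Bijective (ψ.liftBaseChange C))
    {σ τ : Type} [Fintype σ] [Finite τ] (W : τ → σ → R) (w : τ → M) (l : C) (x : σ → X)
    (hx : ∀ i, l • ψ (w i) + ∑ t, W i t • x t = 0) :
    ∃ (ι : Type u) (s : Finset ι) (c : ι → C) (sol : ι → R × (σ → M)),
      (∀ i, sys W w (sol i) = 0) ∧ ∑ i ∈ s, c i * algebraMap R C (sol i).1 = l ∧
        ∀ t, ∑ i ∈ s, c i • ψ ((sol i).2 t) = x t := by
  classical
  haveI := Fintype.ofFinite τ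
  choose y hy using fun t => hψ.2 (x t)
  let z : C ⊗[R] (R × (σ → M)) := l ⊗ₜ ((1 : R), (0 : σ → M)) +
    ∑ t, ((LinearMap.inr R R (σ → M)).comp (LinearMap.single R (fun _ : σ => M) t)).lTensor C (y t)
  -- evaluation of functionals
  have key : ∀ (φ : (R × (σ → M)) →ₗ[R] M), ψ.liftBaseChange C (φ.lTensor C z) =
      l • ψ (φ (1, 0)) + ∑ t, ψ.liftBaseChange C ((φ.comp ((LinearMap.inr R R (σ → M)).comp
        (LinearMap.single R (fun _ : σ => M) t))).lTensor C (y t)) := by
    intro φ
    simp only [z, map_add, map_sum, LinearMap.lTensor_tmul, LinearMap.liftBaseChange_tmul,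
      ← LinearMap.comp_apply (φ.lTensor C), ← LinearMap.lTensor_comp]
  have hz : (sys W w).lTensor C z = 0 := by
    apply (TensorProduct.piRight R R C (fun _ : τ => M)).injective
    rw [map_zero]
    funext i
    have h1 : (TensorProduct.piRight R R C (fun _ : τ => M)) ((sys W w).lTensor C z) i =
        ((LinearMap.proj i).comp (sys W w)).lTensor C z := by
      generalize z = z'
      induction z' using TensorProduct.induction_on with
      | zero => simp
      | tmul c u => simp
      | add a b ha hb => simp only [map_add, Pi.add_apply, ha, hb]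
    rw [h1]
    refine hψ.1 ?_
    rw [Pi.zero_apply, map_zero, key]
    refine Eq.trans ?_ (hx i)
    congr 1
    · simp [sys_apply]
    · refine Finset.sum_congr rfl fun t _ => ?_
      have h2 : ((LinearMap.proj i).comp (sys W w)).comp ((LinearMap.inr R R (σ → M)).comp
          (LinearMap.single R (fun _ : σ => M) t)) = W i t • LinearMap.id := by
        refine LinearMap.ext fun m => ?_
        simp only [LinearMap.comp_apply, LinearMap.inr_apply, LinearMap.proj_apply, sys_apply, zero_smul,
          zero_add, LinearMap.smul_apply, LinearMap.id_apply]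
        rw [Finset.sum_eq_single t (fun t' _ ht' => by simp [ht']) (by simp)]
        simp
      rw [h2, LinearMap.lTensor_smul, LinearMap.smul_apply, LinearMap.lTensor_id, LinearMap.id_apply,
        ← algebraMap_smul C (W i t) (y t), map_smul, algebraMap_smul, hy]
  obtain ⟨k, hk⟩ := (Module.Flat.lTensor_exact C (LinearMap.exact_subtype_ker_map (sys W w)) z).mp hz
  obtain ⟨S, hS⟩ := TensorProduct.exists_finset k
  refine ⟨C × LinearMap.ker (sys W w), S, fun p => p.1, fun p => p.2.1, fun p => p.2.2, ?_, fun t => ?_⟩
  · have h := congrArg (fun u => TensorProduct.rid R C ((LinearMap.fst R R (σ → M)).lTensor C u)) hk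
    simp only [hS, map_sum, LinearMap.lTensor_tmul, Submodule.subtype_apply] at h
    simp only [z, map_add, map_sum, LinearMap.lTensor_tmul, ← LinearMap.comp_apply ((LinearMap.fst R R (σ → M)).lTensor C),
      ← LinearMap.lTensor_comp, ← LinearMap.comp_assoc, LinearMap.fst_comp_inr, LinearMap.zero_comp, LinearMap.lTensor_zero,
      LinearMap.zero_apply, map_zero, Finset.sum_const_zero, add_zero] at h
    simpa [Algebra.smul_def, mul_comm] using h
  · have h := congrArg (fun u => ψ.liftBaseChange C (((LinearMap.proj t).comp (LinearMap.snd R R (σ → M))).lTensor C u)) hk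
    simp only [hS, map_sum, LinearMap.lTensor_tmul, Submodule.subtype_apply, LinearMap.liftBaseChange_tmul, key] at h
    refine Eq.trans ?_ (h.trans ?_)
    · rfl
    · rw [Finset.sum_eq_single t]
      · have h3 : ((LinearMap.proj t).comp (LinearMap.snd R R (σ → M))).comp ((LinearMap.inr R R (σ → M)).comp
            (LinearMap.single R (fun _ : σ => M) t)) = LinearMap.id := LinearMap.ext fun m => by simp
        rw [h3, LinearMap.lTensor_id, LinearMap.id_apply, hy]
        simp
      · intro t' _ ht'
        have h4 : ((LinearMap.proj t).comp (LinearMap.snd R R (σ → M))).comp ((LinearMap.inr R R (σ → M)).comp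
            (LinearMap.single R (fun _ : σ => M) t')) = 0 := LinearMap.ext fun m => by simp [ht'.symm]
        rw [h4, LinearMap.lTensor_zero, LinearMap.zero_apply, map_zero]
      · simp

end Groth.Agent.H21.NilEtale.SolSystem
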