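import Groth.Agent.H21.NilEtale.Tools
import Groth.Agent.H21.NilEtale.SolSystem
import Groth.Agent.H21.NilEtale.Descent
import Mathlib.RingTheory.RingHom.Etale
import Mathlib.RingTheory.FiniteType
import Mathlib.RingTheory.Smooth.Basic
import Mathlib.Algebra.Module.Torsion.Basic

/-!
# Lifting approximations along square-zero ideals
-/

set_option autoImplicit false
set_option linter.style.haveILetI false

universe u

open TensorProduct MvPolynomial

namespace Groth.Agent.H21.NilEtale.Sq

set_option maxHeartbeats 1000000 in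
theorem exists_lift_sq (A : Type u) [CommRing A] [IsNoetherianRing A] (I J : Ideal A) (hJ : J * J = ⊥)
    (C : Type u) [CommRing C] [Algebra A C] [Algebra.FiniteType A C]
    (hC : ∀ a ∈ I, Algebra.Etale A (Localization.Away (algebraMap A C a)))
    (B₀ : Type u) [CommRing B₀] [Algebra A B₀] [Algebra (A ⧸ J) B₀] [IsScalarTower A (A ⧸ J) B₀]
    [Algebra.FiniteType (A ⧸ J) B₀] (hB₀ : ∀ a ∈ I, Algebra.Etale (A ⧸ J) (Localization.Away (algebraMap A B₀ a)))
    [Algebra B₀ (C ⧸ J.map (algebraMap A C))] [IsScalarTower A B₀ (C ⧸ J.map (algebraMap A C))]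
    [Algebra.Etale B₀ (C ⧸ J.map (algebraMap A C))]
    (h3 : (∀ c : (C ⧸ J.map (algebraMap A C)), ∃ b : B₀, algebraMap B₀ (C ⧸ J.map (algebraMap A C)) b - c ∈ I.map (algebraMap A (C ⧸ J.map (algebraMap A C)))) ∧ ∀ b : B₀, algebraMap B₀ (C ⧸ J.map (algebraMap A C)) b ∈ I.map (algebraMap A (C ⧸ J.map (algebraMap A C))) → b ∈ I.map (algebraMap A B₀)) :
    ∃ (B : Type u) (_ : CommRing B) (_ : Algebra A B) (_ : Algebra B C) (_ : IsScalarTower A B C) (_ : Algebra B B₀) (_ : IsScalarTower A B B₀), Algebra.FiniteType A B ∧ Algebra.Etale B C ∧ (∀ a ∈ I, Algebra.Etale A (Localization.Away (algebraMap A B a))) ∧ Function.Surjective (algebraMap B B₀) ∧ RingHom.ker (algebraMap B B₀) = J.map (algebraMap A B) ∧ ∀ b : B, algebraMap B₀ (C ⧸ J.map (algebraMap A C)) (algebraMap B B₀ b) = Ideal.Quotient.mk (J.map (algebraMap A C)) (algebraMap B C b) := by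
  classical
  haveI : Algebra.FiniteType A B₀ := Algebra.FiniteType.trans (S := A ⧸ J) inferInstance inferInstance
  haveI : IsNoetherianRing B₀ := Algebra.FiniteType.isNoetherianRing A B₀
  haveI : IsNoetherianRing C := Algebra.FiniteType.isNoetherianRing A C
  let J' := J.map (algebraMap A C)
  let C₀ := C ⧸ J'
  haveI : Module.Flat B₀ C₀ := inferInstance
  have hnil : J' * J' = ⊥ := by rw [← Ideal.map_mul, hJ, Ideal.map_bot]
  have hJB₀ : ∀ j ∈ J, algebraMap A B₀ j = 0 := fun j hj => by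
    rw [IsScalarTower.algebraMap_apply A (A ⧸ J) B₀, Ideal.Quotient.algebraMap_eq,
      Ideal.Quotient.eq_zero_iff_mem.mpr hj, map_zero]
  have hprod : ∀ u ∈ J', ∀ v ∈ J', u * v = 0 := fun u hu v hv => by
    rw [← Ideal.mem_bot, ← hnil]; exact Ideal.mul_mem_mul hu hv
  -- `X = J C` as a module
  let X : Type u := J'
  have htors : Module.IsTorsionBySet C X (J' : Set C) := fun x a => Subtype.ext (hprod _ a.2 _ (x : J').2)
  letI : Module C₀ X := htors.module
  letI : Module B₀ X := Module.compHom X (algebraMap B₀ C₀)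
  haveI : IsScalarTower B₀ C₀ X := ⟨fun b c x => by
    show (b • c) • x = algebraMap B₀ C₀ b • (c • x)
    rw [Algebra.smul_def, mul_smul]⟩
  have hmk : ∀ (c : C) (x : X), ((Ideal.Quotient.mk J' c • x : X) : C) = c * (x : C) := fun c x => rfl
  haveI : IsScalarTower A B₀ X := ⟨fun a b x => by
    show algebraMap B₀ C₀ (a • b) • x = a • (algebraMap B₀ C₀ b • x)
    rw [Algebra.smul_def, map_mul, mul_smul, ← IsScalarTower.algebraMap_apply]
    apply Subtype.ext
    generalize algebraMap B₀ C₀ b • x = y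
    show ((Ideal.Quotient.mk J' (algebraMap A C a) • y : X) : C) = a • (y : C)
    rw [hmk, Algebra.smul_def]⟩
  -- `G = B₀ ⊗ J` and its map to `X`
  let G : Type u := B₀ ⊗[A] J
  haveI : Module.Finite A J := Module.Finite.iff_fg.mpr (IsNoetherian.noetherian J)
  haveI : Module.Finite B₀ G := inferInstanceAs (Module.Finite B₀ (B₀ ⊗[A] J))
  let jX : J →ₗ[A] X :=
    { toFun := fun j => ⟨algebraMap A C j, Ideal.mem_map_of_mem _ j.2⟩
      map_add' := fun j j' => Subtype.ext (map_add _ _ _)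
      map_smul' := fun a j => Subtype.ext (by
        show algebraMap A C (a * (j : A)) = a • algebraMap A C (j : A)
        rw [map_mul, Algebra.smul_def]) }
  let ψG : G →ₗ[B₀] X := jX.liftBaseChange B₀
  let e := TensorProduct.AlgebraTensorModule.cancelBaseChange A B₀ C₀ C₀ J
  obtain ⟨μC, hμC⟩ := Tools.exists_mulMap hJ C
  have hΨe : ∀ z : C₀ ⊗[B₀] G, ((ψG.liftBaseChange C₀ z : X) : C) = μC (e z) := by
    intro z
    induction z using TensorProduct.induction_on with
    | zero => simp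
    | add u v hu hv => simp only [map_add, ← hu, ← hv]; rfl
    | tmul c g =>
      induction g using TensorProduct.induction_on with
      | zero => simp
      | add u v hu hv => simp only [tmul_add, map_add, ← hu, ← hv]; rfl
      | tmul b j =>
        obtain ⟨c, rfl⟩ := Ideal.Quotient.mk_surjective c
        obtain ⟨c', hc'⟩ := Ideal.Quotient.mk_surjective (algebraMap B₀ C₀ b)
        have h1 : e (Ideal.Quotient.mk J' c ⊗ₜ[B₀] (b ⊗ₜ[A] j)) = Ideal.Quotient.mk J' (c' * c) ⊗ₜ j := by
          rw [TensorProduct.AlgebraTensorModule.cancelBaseChange_tmul, Algebra.smul_def, ← hc', map_mul]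
        rw [h1, hμC, LinearMap.liftBaseChange_tmul]
        show ((Ideal.Quotient.mk J' c • (algebraMap B₀ C₀ b • jX j) : X) : C) = _
        rw [← hc', hmk, hmk]
        show c * (c' * algebraMap A C j) = _
        ring
  have hsurj : Function.Surjective (ψG.liftBaseChange C₀) := by
    intro x
    have hx : (x : C) ∈ J'.restrictScalars A := (x : J').2
    rw [← Ideal.smul_top_eq_map] at hx
    suffices h : ∀ w ∈ (J • ⊤ : Submodule A C), ∃ z, ((ψG.liftBaseChange C₀ z : X) : C) = w by
      obtain ⟨z, hz⟩ := h _ hx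
      exact ⟨z, Subtype.ext hz⟩
    intro w hw
    refine Submodule.smul_induction_on hw (fun j hj t _ => ?_) (fun u v ⟨zu, hu⟩ ⟨zv, hv⟩ => ⟨zu + zv, by rw [map_add, ← hu, ← hv]; rfl⟩)
    refine ⟨e.symm (Ideal.Quotient.mk J' t ⊗ₜ ⟨j, hj⟩), ?_⟩
    rw [hΨe, e.apply_symm_apply, hμC, Algebra.smul_def, mul_comm]
  -- the kernel is torsion
  let I₀ := I.map (algebraMap A B₀)
  have hI₀C : I₀.map (algebraMap B₀ C₀) = I.map (algebraMap A C₀) := by
    rw [Ideal.map_map, ← IsScalarTower.algebraMap_eq]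
  have hs : Function.Surjective ((Ideal.Quotient.mk (I₀.map (algebraMap B₀ C₀))).comp (algebraMap B₀ C₀)) := by
    intro z
    obtain ⟨z, rfl⟩ := Ideal.Quotient.mk_surjective z
    obtain ⟨b, hb⟩ := h3.1 z
    exact ⟨b, Ideal.Quotient.eq.mpr (hI₀C ▸ hb)⟩
  have hk : RingHom.ker ((Ideal.Quotient.mk (I₀.map (algebraMap B₀ C₀))).comp (algebraMap B₀ C₀)) = I₀ := by
    ext b
    rw [RingHom.mem_ker, RingHom.comp_apply, Ideal.Quotient.eq_zero_iff_mem]
    exact ⟨fun h => h3.2 b (hI₀C ▸ h), fun h => Ideal.mem_map_of_mem _ h⟩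
  have hkill : ∀ z : C₀ ⊗[B₀] G, ψG.liftBaseChange C₀ z = 0 → ∃ N, ∀ b ∈ I₀ ^ N, b • z = 0 := by
    intro z hz
    let Ann : Ideal B₀ :=
      { carrier := {b | b • z = 0}
        zero_mem' := zero_smul _ z
        add_mem' := fun {b b'} hb hb' => by
          show (b + b') • z = 0
          rw [add_smul, hb, hb', add_zero]
        smul_mem' := fun c b hb => by
          show (c * b) • z = 0
          rw [mul_smul, hb, smul_zero] }
    have hrad : I₀ ≤ Ann.radical := by
      refine Ideal.map_le_iff_le_comap.mpr fun a ha => ?_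
      haveI := hC a ha
      obtain ⟨y, hy⟩ := LinearMap.rTensor_surjective J (g := (Ideal.Quotient.mkₐ A J').toLinearMap)
        Ideal.Quotient.mk_surjective (e z)
      let ι := IsScalarTower.toAlgHom A C (Localization.Away (algebraMap A C a))
      let emb : Localization.Away (algebraMap A C a) ⊗[A] J →ₗ[A] Localization.Away (algebraMap A C a) :=
        (TensorProduct.rid A _).toLinearMap.comp (J.subtype.lTensor _)
      have hemb : Function.Injective emb :=
        (TensorProduct.rid A _).injective.comp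
          (Module.Flat.lTensor_preserves_injective_linearMap J.subtype J.injective_subtype)
      have hval : ∀ w : C ⊗[A] J, emb (ι.toLinearMap.rTensor J w) =
          ι (μC ((Ideal.Quotient.mkₐ A J').toLinearMap.rTensor J w)) := by
        intro w
        induction w using TensorProduct.induction_on with
        | zero => simp
        | add u v hu hv => simp only [map_add, hu, hv]
        | tmul c j =>
          show TensorProduct.rid A _ (J.subtype.lTensor _ (ι c ⊗ₜ j)) = ι (μC (Ideal.Quotient.mk J' c ⊗ₜ j))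
          rw [LinearMap.lTensor_tmul, TensorProduct.rid_tmul, hμC, map_mul, AlgHom.commutes, Submodule.subtype_apply,
            Algebra.smul_def, mul_comm]
      have h1 : ι.toLinearMap.rTensor J y = 0 := hemb (by
        rw [hval, hy, ← hΨe, hz, map_zero]
        exact map_zero ι)
      obtain ⟨N, hN⟩ := Tools.exists_pow_smul_eq_zero J (algebraMap A C a) y h1
      refine ⟨N, ?_⟩
      show algebraMap A B₀ a ^ N • z = 0
      rw [← map_pow, algebraMap_smul]
      have h2 : a ^ N • y = 0 := by rw [← algebraMap_smul C, map_pow]; exact hN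
      apply e.injective
      rw [map_zero, ← algebraMap_smul C₀ (a ^ N) z, map_smul, algebraMap_smul, ← hy, ← map_smul, h2, map_zero]
    exact Ideal.exists_pow_le_of_le_radical_of_fg hrad (IsNoetherian.noetherian I₀)
  obtain ⟨K', hK', ⟨kK, hkK⟩, hψbij⟩ := Descent.exists_quotient I₀ hs hk ψG hsurj hkill
  let M : Type u := G ⧸ K'
  let ψ : M →ₗ[B₀] X := Submodule.liftQ K' ψG hK'
  let jM : J → M := fun j => Submodule.Quotient.mk ((1 : B₀) ⊗ₜ[A] j)
  -- a presentation
  obtain ⟨n, π, hπ⟩ := Algebra.FiniteType.iff_quotient_mvPolynomial''.mp (inferInstance : Algebra.FiniteType A B₀)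
  let P := MvPolynomial (Fin n) A
  let L : Ideal P := RingHom.ker π
  obtain ⟨r, f, hf⟩ := Submodule.fg_iff_exists_fin_generating_family.mp (IsNoetherian.noetherian L)
  have hfL : ∀ t, f t ∈ L := fun t => hf ▸ Submodule.subset_span ⟨t, rfl⟩
  have hπf : ∀ t, π (f t) = 0 := hfL
  have hπC : ∀ c : A, π (MvPolynomial.C c) = algebraMap A B₀ c := fun c => π.commutes c
  obtain ⟨p, ρ, hρ⟩ := Submodule.fg_iff_exists_fin_generating_family.mp
    (IsNoetherian.noetherian (LinearMap.ker (Fintype.linearCombination P f)))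
  have hρrel : ∀ l, ∑ t, ρ l t * f t = 0 := by
    intro l
    have : ρ l ∈ LinearMap.ker (Fintype.linearCombination P f) := hρ ▸ Submodule.subset_span ⟨l, rfl⟩
    simpa [LinearMap.mem_ker, Fintype.linearCombination_apply, smul_eq_mul] using this
  obtain ⟨q, g, hg⟩ := Submodule.fg_iff_exists_fin_generating_family.mp (IsNoetherian.noetherian J)
  have hgJ : ∀ k, g k ∈ J := fun k => hg ▸ Submodule.subset_span ⟨k, rfl⟩
  have hCg : ∀ k, MvPolynomial.C (g k) ∈ L := fun k => by
    show π (MvPolynomial.C (g k)) = 0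
    rw [← MvPolynomial.algebraMap_eq, AlgHom.commutes, hJB₀ _ (hgJ k)]
  choose ev hev using fun k => (Submodule.mem_span_range_iff_exists_fun P).mp (hf ▸ hCg k)
  simp only [smul_eq_mul] at hev
  let W : Fin p ⊕ Fin q → Fin r → B₀ := fun i t => Sum.elim (fun l => π (ρ l t)) (fun k => π (ev k t)) i
  let w : Fin p ⊕ Fin q → M := fun i => Sum.elim (fun _ => (0 : M)) (fun k => - jM ⟨g k, hgJ k⟩) i
  let Φ : (B₀ × (Fin r → M)) →ₗ[B₀] (Fin p ⊕ Fin q → M) := SolSystem.sys W w
  -- a point of `C`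
  choose cs hcs using fun i => Ideal.Quotient.mk_surjective (algebraMap B₀ C₀ (π (MvPolynomial.X i)))
  let φ : P →ₐ[A] C := MvPolynomial.aeval cs
  have hφ : ∀ z, Ideal.Quotient.mk J' (φ z) = algebraMap B₀ C₀ (π z) := fun z =>
    AlgHom.congr_fun (show (Ideal.Quotient.mkₐ A J').comp φ = (IsScalarTower.toAlgHom A B₀ C₀).comp π from
      MvPolynomial.algHom_ext fun i => by simpa [φ] using hcs i) z
  let θ : Fin r → X := fun t => ⟨φ (f t), Ideal.Quotient.eq_zero_iff_mem.mp (by rw [hφ, hπf, map_zero])⟩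
  have hsmulX : ∀ (z : P) (x : X), ((π z • x : X) : C) = φ z * (x : C) := fun z x => by
    show ((algebraMap B₀ C₀ (π z) • x : X) : C) = _
    rw [← hφ, hmk]
  have hψj : ∀ j : J, ((ψ (jM j) : X) : C) = algebraMap A C j := fun j => by
    show ((ψG ((1 : B₀) ⊗ₜ[A] j) : X) : C) = _
    rw [LinearMap.liftBaseChange_tmul, one_smul]; rfl
  have hsumX : ∀ (u : Fin r → P) (y : Fin r → X), ((∑ t, π (u t) • y t : X) : C) = ∑ t, φ (u t) * (y t : C) := by
    intro u y
    have h0 : ∀ (s : Finset (Fin r)), ((∑ t ∈ s, π (u t) • y t : X) : C) = ∑ t ∈ s, φ (u t) * (y t : C) := by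
      intro s
      induction s using Finset.induction_on with
      | empty => simp
      | insert a s ha ih =>
        rw [Finset.sum_insert ha, Finset.sum_insert ha, ← ih, ← hsmulX]
        rfl
    exact h0 Finset.univ
  have hθeq : ∀ i, (1 : C₀) • ψ (w i) + ∑ t, W i t • θ t = 0 := by
    rintro (l | k)
    · simp only [w, W, Sum.elim_inl, map_zero, smul_zero, zero_add]
      apply Subtype.ext
      rw [hsumX]
      show ∑ t, φ (ρ l t) * φ (f t) = _
      simp only [← map_mul, ← map_sum, hρrel, map_zero]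
      rfl
    · simp only [w, W, Sum.elim_inr, map_neg, one_smul]
      rw [neg_add_eq_sub, sub_eq_zero]
      apply Subtype.ext
      rw [hsumX, hψj]
      show ∑ t, φ (ev k t) * φ (f t) = _
      simp only [← map_mul, ← map_sum, hev]
      rw [← MvPolynomial.algebraMap_eq, AlgHom.commutes]
  -- local solutions
  have hlocal : ∀ a ∈ I, ∃ (N : ℕ) (v : Fin r → M), Φ (algebraMap A B₀ a ^ N, v) = 0 := by
    intro a ha
    haveI := hB₀ a ha
    let Ba := Localization.Away (algebraMap A B₀ a)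
    let ι : B₀ →ₐ[A] Ba := IsScalarTower.toAlgHom A B₀ Ba
    obtain ⟨B', _, _, hB', ψ', hψ', hker'⟩ := Groth.Agent.Lib.Henselian.EtaleLift.exists_etale_lift (A := A) J Ba
    choose xs hxs using fun i => hψ' (ι (π (MvPolynomial.X i)))
    let φa : P →ₐ[A] B' := MvPolynomial.aeval xs
    have hφa : ∀ z, ψ' (φa z) = ι (π z) := fun z =>
      AlgHom.congr_fun (show ψ'.comp φa = ι.comp π from MvPolynomial.algHom_ext fun i => by simp [φa, hxs]) z
    let mul : B' ⊗[A] J →ₗ[A] B' := (TensorProduct.rid A B').toLinearMap.comp (J.subtype.lTensor B')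
    have hmulinj : Function.Injective mul := (TensorProduct.rid A B').injective.comp
      (Module.Flat.lTensor_preserves_injective_linearMap J.subtype J.injective_subtype)
    have hmulmul : ∀ (b : B') (y : B' ⊗[A] J), mul (b • y) = b * mul y := by
      intro b y
      induction y using TensorProduct.induction_on with
      | zero => simp
      | add u v hu hv => simp only [smul_add, map_add, hu, hv, mul_add]
      | tmul c j =>
        show (j : A) • (b • c) = b * ((j : A) • c)
        rw [smul_eq_mul, mul_smul_comm]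
    have hy : ∀ t, ∃ y, mul y = φa (f t) := fun t => by
      have h1 : φa (f t) ∈ (J.map (algebraMap A B')).restrictScalars A :=
        hker'.le (show ψ' (φa (f t)) = 0 by rw [hφa, hπf, map_zero])
      rw [← Ideal.smul_top_eq_map] at h1
      refine Submodule.smul_induction_on h1 (fun j hj z _ => ?_) (fun u v ⟨yu, hu⟩ ⟨yv, hv⟩ => ⟨yu + yv, by rw [map_add, hu, hv]⟩)
      exact ⟨z ⊗ₜ ⟨j, hj⟩, by simp [mul]⟩
    choose y hy using hy
    let Θ : B' ⊗[A] J →ₗ[A] Ba ⊗[A] J := ψ'.toLinearMap.rTensor J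
    have hΘ : ∀ (z : P) (y : B' ⊗[A] J), Θ (φa z • y) = ι (π z) • Θ y := by
      intro z y
      rw [← hφa]
      induction y using TensorProduct.induction_on with
      | zero => simp
      | add u v hu hv => simp only [smul_add, map_add, hu, hv]
      | tmul c j =>
        show ψ' (φa z • c) ⊗ₜ[A] j = (ψ' (φa z) • ψ' c) ⊗ₜ[A] j
        rw [smul_eq_mul, smul_eq_mul, map_mul]
    choose Nt gt hgt using fun t => Tools.exists_pow_smul_eq (A := A) J (algebraMap A B₀ a) (Θ (y t))
    let N₁ := ∑ t, Nt t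
    let gs : Fin r → G := fun t => algebraMap A B₀ a ^ (N₁ - Nt t) • gt t
    let emb : G →ₗ[A] Ba ⊗[A] J := ι.toLinearMap.rTensor J
    have hembs : ∀ (b : B₀) (x : G), emb (b • x) = ι b • emb x := by
      intro b x
      induction x using TensorProduct.induction_on with
      | zero => simp
      | add u v hu hv => simp only [smul_add, map_add, hu, hv]
      | tmul c j =>
        show ι (b • c) ⊗ₜ[A] j = (ι b • ι c) ⊗ₜ[A] j
        rw [smul_eq_mul, smul_eq_mul, map_mul]
    have hgs : ∀ t, emb (gs t) = ι (algebraMap A B₀ a) ^ N₁ • Θ (y t) := by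
      intro t
      have hle : Nt t ≤ N₁ := Finset.single_le_sum (fun i _ => Nat.zero_le (Nt i)) (Finset.mem_univ t)
      rw [hembs, map_pow]
      show ι (algebraMap A B₀ a) ^ (N₁ - Nt t) • (emb (gt t)) = _
      rw [show emb (gt t) = _ from hgt t, smul_smul, show algebraMap B₀ Ba (algebraMap A B₀ a) = ι (algebraMap A B₀ a) from rfl,
        ← pow_add, Nat.sub_add_cancel hle]
    let Eq : Fin p ⊕ Fin q → G := Sum.elim (fun l => ∑ t, π (ρ l t) • gs t)
      (fun k => ∑ t, π (ev k t) • gs t - algebraMap A B₀ a ^ N₁ • ((1 : B₀) ⊗ₜ[A] ⟨g k, hgJ k⟩))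
    have hEq : ∀ i, emb (Eq i) = 0 := by
      have hsum : ∀ (u : Fin r → P), emb (∑ t, π (u t) • gs t) = ι (algebraMap A B₀ a) ^ N₁ • Θ (∑ t, φa (u t) • y t) := by
        intro u
        rw [map_sum, map_sum, Finset.smul_sum]
        refine Finset.sum_congr rfl fun t _ => ?_
        rw [hembs, hgs, hΘ, smul_smul, smul_smul, mul_comm]
      have hmulsum : ∀ (u : Fin r → P), mul (∑ t, φa (u t) • y t) = φa (∑ t, u t * f t) := by
        intro u
        rw [map_sum, map_sum]
        exact Finset.sum_congr rfl fun t _ => by rw [hmulmul, hy, map_mul]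
      rintro (l | k)
      · simp only [Eq, Sum.elim_inl]
        rw [hsum, show ∑ t, φa (ρ l t) • y t = 0 from hmulinj (by rw [hmulsum, hρrel, map_zero, map_zero]), map_zero, smul_zero]
      · simp only [Eq, Sum.elim_inr]
        have h1 : ∑ t, φa (ev k t) • y t = (1 : B') ⊗ₜ[A] ⟨g k, hgJ k⟩ := hmulinj (by
          rw [hmulsum, hev, ← MvPolynomial.algebraMap_eq, AlgHom.commutes]
          simp [mul, Algebra.smul_def])
        rw [map_sub, hsum, h1, hembs, map_pow, sub_eq_zero]
        show _ • (ψ' 1 ⊗ₜ[A] _) = _ • (ι 1 ⊗ₜ[A] _)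
        rw [map_one, map_one]
    choose Ne hNe using fun i => Tools.exists_pow_smul_eq_zero (A := A) J (algebraMap A B₀ a) (Eq i) (hEq i)
    let N₂ := ∑ i, Ne i
    refine ⟨N₂ + N₁, fun t => Submodule.Quotient.mk (algebraMap A B₀ a ^ N₂ • gs t), funext fun i => ?_⟩
    have hle : Ne i ≤ N₂ := Finset.single_le_sum (fun j _ => Nat.zero_le (Ne j)) (Finset.mem_univ i)
    have h0 : algebraMap A B₀ a ^ N₂ • Eq i = 0 := by
      rw [← Nat.sub_add_cancel hle, pow_add, mul_smul, hNe, smul_zero]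
    rw [Pi.zero_apply, show Φ = SolSystem.sys W w from rfl, SolSystem.sys_apply]
    rcases i with l | k
    · simp only [w, W, Sum.elim_inl, smul_zero, zero_add]
      trans K'.mkQ (algebraMap A B₀ a ^ N₂ • Eq (Sum.inl l))
      · simp only [Eq, Sum.elim_inl, Finset.smul_sum, map_sum]
        exact Finset.sum_congr rfl fun t _ => by
          rw [smul_comm (algebraMap A B₀ a ^ N₂) (π (ρ l t)) (gs t)]; exact (Submodule.Quotient.mk_smul K' _ _).symm
      · rw [h0, map_zero]
    · simp only [w, W, Sum.elim_inr]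
      show (algebraMap A B₀ a ^ (N₂ + N₁)) • -(K'.mkQ ((1 : B₀) ⊗ₜ[A] ⟨g k, hgJ k⟩)) + _ = 0
      trans K'.mkQ (algebraMap A B₀ a ^ N₂ • Eq (Sum.inr k))
      · simp only [Eq, Sum.elim_inr, smul_sub, Finset.smul_sum, map_sub, map_sum, pow_add, mul_smul, smul_neg]
        rw [neg_add_eq_sub]
        refine congrArg₂ (· - ·) (Finset.sum_congr rfl fun t _ => ?_) ?_
        · rw [smul_comm (algebraMap A B₀ a ^ N₂) (π (ev k t)) (gs t), map_smul]; rfl
        · simp only [map_smul]
      · rw [h0, map_zero]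
  -- a global solution
  let Λ : Ideal B₀ := Submodule.map (LinearMap.fst B₀ B₀ (Fin r → M)) (LinearMap.ker Φ)
  obtain ⟨ι₁, s₁, c₁, sol₁, hsol₁, hsum₁, -⟩ := SolSystem.exists_solutions ψ hψbij W w (1 : C₀) θ hθeq
  have hΛ : Λ = ⊤ := by
    by_contra hne
    obtain ⟨m, hm, hle⟩ := Ideal.exists_le_maximal Λ hne
    have hI : I₀ ≤ m := by
      refine Ideal.map_le_iff_le_comap.mpr fun a ha => ?_
      obtain ⟨N, v, hv⟩ := hlocal a ha
      exact hm.isPrime.mem_of_pow_mem N (hle ⟨(_, v), hv, rfl⟩)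
    obtain ⟨rt, hrt⟩ := Groth.Agent.Lib.TorExt36.Descent.exists_retraction hs hk
    have h1 : (1 : B₀ ⧸ I₀) ∈ m.map (Ideal.Quotient.mk I₀) := by
      rw [← map_one rt, ← hsum₁, map_sum]
      refine sum_mem fun i _ => ?_
      rw [map_mul, AlgHom.commutes]
      exact Ideal.mul_mem_left _ _ (Ideal.mem_map_of_mem _ (hle ⟨sol₁ i, hsol₁ i, rfl⟩))
    rw [← map_one (Ideal.Quotient.mk I₀), ← Ideal.mem_comap, Ideal.comap_map_of_surjective' _ Ideal.Quotient.mk_surjective,
      Ideal.mk_ker, sup_eq_left.mpr hI] at h1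
    exact hm.ne_top ((Ideal.eq_top_iff_one m).mpr h1)
  obtain ⟨⟨_, v₀⟩, hv₀, rfl : _ = (1 : B₀)⟩ := hΛ.ge (Submodule.mem_top (x := (1 : B₀)))
  -- correct by derivations
  let Dm : (Fin n → M) →ₗ[B₀] (Fin r → M) :=
    LinearMap.pi fun t => ∑ i, π (MvPolynomial.pderiv i (f t)) • LinearMap.proj i
  have hDm : ∀ m t, Dm m t = ∑ i, π (MvPolynomial.pderiv i (f t)) • m i := fun m t => by simp [Dm, LinearMap.sum_apply]
  let Φ₁ : (Fin r → M) →ₗ[B₀] (Fin p ⊕ Fin q → M) := Φ.comp (LinearMap.inr B₀ B₀ (Fin r → M))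
  have hΦ₁ : ∀ v i, Φ₁ v i = ∑ t, W i t • v t := fun v i => by
    simp [Φ₁, Φ, SolSystem.sys_apply]
  have hπrel : ∀ (u : Fin r → P) (z : P), ∑ t, u t * f t = z → (∀ i, π (MvPolynomial.pderiv i z) = 0) →
      ∀ i, ∑ t, π (u t) * π (MvPolynomial.pderiv i (f t)) = 0 := by
    intro u z hz hz' i
    have h := hz' i
    rw [← hz] at h
    simpa [map_sum, MvPolynomial.pderiv_mul, hπf] using h
  have hDker : ∀ m, Φ₁ (Dm m) = 0 := by
    intro m
    funext i
    rw [hΦ₁, Pi.zero_apply]
    simp only [hDm, Finset.smul_sum, smul_smul]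
    rw [Finset.sum_comm]
    refine Finset.sum_eq_zero fun j _ => ?_
    rw [← Finset.sum_smul]
    rcases i with l | k
    · simp only [W, Sum.elim_inl]
      rw [hπrel (ρ l) 0 (hρrel l) (by simp) j, zero_smul]
    · simp only [W, Sum.elim_inr]
      rw [hπrel (ev k) _ (hev k) (by simp) j, zero_smul]
  let D' : (Fin n → M) →ₗ[B₀] LinearMap.ker Φ₁ := Dm.codRestrict _ fun m => hDker m
  let Q : Type u := LinearMap.ker Φ₁ ⧸ LinearMap.range D'
  haveI : Module.Finite B₀ M := inferInstance
  haveI : IsNoetherian B₀ M := inferInstance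
  haveI : Module.Finite B₀ Q := inferInstance
  -- `Q` is torsion
  have hQa : ∀ a ∈ I, ∀ v : Fin r → M, Φ₁ v = 0 → ∃ (N : ℕ) (m : Fin n → M), algebraMap A B₀ a ^ N • v = Dm m := by
    intro a ha v hv
    haveI := hB₀ a ha
    let Ba := Localization.Away (algebraMap A B₀ a)
    let ι : B₀ →ₐ[A] Ba := IsScalarTower.toAlgHom A B₀ Ba
    let Pa := Localization.Away (MvPolynomial.C a : P)
    let La : Ideal Pa := L.map (algebraMap P Pa)
    let S : Ideal Pa := (L ^ 2 ⊔ J.map (algebraMap A P)).map (algebraMap P Pa)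
    let πa : Pa →ₐ[A] Ba := IsLocalization.liftAlgHom (M := Submonoid.powers (MvPolynomial.C a : P)) (f := ι.comp π) (by
      rintro ⟨_, m, rfl⟩
      show IsUnit (ι (π (MvPolynomial.C a ^ m)))
      rw [map_pow, map_pow, hπC]
      exact (IsLocalization.Away.algebraMap_isUnit (S := Ba) (algebraMap A B₀ a)).pow m)
    have hπa : ∀ z, πa (algebraMap P Pa z) = ι (π z) := fun z => IsLocalization.lift_eq _ _
    have hSker : S ≤ RingHom.ker πa := by
      refine Ideal.map_le_iff_le_comap.mpr (sup_le ((Ideal.pow_le_self two_ne_zero).trans fun z hz => ?_) (Ideal.map_le_iff_le_comap.mpr fun j hj => ?_))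
      · rw [Ideal.mem_comap, RingHom.mem_ker, hπa, show π z = 0 from hz, map_zero]
      · rw [Ideal.mem_comap, Ideal.mem_comap, RingHom.mem_ker, hπa, AlgHom.commutes, hJB₀ j hj, map_zero]
    let T := Pa ⧸ S
    let πT : T →ₐ[A] Ba := Ideal.Quotient.liftₐ S πa hSker
    have hπT : ∀ z, πT (Ideal.Quotient.mk S z) = πa z := fun z => rfl
    let kerT : Ideal T := RingHom.ker πT
    have hkerT : kerT ≤ La.map (Ideal.Quotient.mk S) := by
      intro z hz
      obtain ⟨z, rfl⟩ := Ideal.Quotient.mk_surjective z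
      refine Ideal.mem_map_of_mem _ ?_
      obtain ⟨⟨u, ⟨_, m, rfl⟩⟩, hu⟩ := IsLocalization.surj (Submonoid.powers (MvPolynomial.C a : P)) z
      have h1 : ι (π u) = 0 := by
        rw [← hπa, ← hu, map_mul, show πa z = 0 from hz, zero_mul]
      obtain ⟨⟨_, m', rfl⟩, hm'⟩ := (IsLocalization.map_eq_zero_iff (Submonoid.powers (algebraMap A B₀ a)) Ba _).mp h1
      have h2 : MvPolynomial.C a ^ m' * u ∈ L := by
        show π (MvPolynomial.C a ^ m' * u) = 0
        rw [map_mul, map_pow, hπC]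
        exact hm'
      have h3' := Ideal.mem_map_of_mem (algebraMap P Pa) h2
      rw [map_mul, map_pow, ← hu] at h3'
      have hun := IsLocalization.Away.algebraMap_isUnit (S := Pa) (MvPolynomial.C a : P)
      rw [Ideal.unit_mul_mem_iff_mem _ (hun.pow m')] at h3'
      exact (Ideal.mul_unit_mem_iff_mem _ (IsLocalization.map_units Pa (⟨_, m, rfl⟩ : Submonoid.powers (MvPolynomial.C a : P)))).mp h3'
    have hTnil : ∀ u ∈ kerT, ∀ u' ∈ kerT, u * u' = 0 := by
      intro u hu u' hu'
      have h1 := Ideal.mul_mem_mul (hkerT hu) (hkerT hu')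
      rw [← Ideal.map_mul, ← Ideal.map_mul, ← pow_two] at h1
      have h2 : (L ^ 2).map (algebraMap P Pa) ≤ S := Ideal.map_mono le_sup_left
      have h3' := Ideal.map_mono (f := Ideal.Quotient.mk S) h2 h1
      rwa [Ideal.map_quotient_self, Ideal.mem_bot] at h3'
    letI : Algebra (A ⧸ J) T := (Ideal.Quotient.lift J (algebraMap A T) (fun j hj => by
      rw [IsScalarTower.algebraMap_apply A P T, IsScalarTower.algebraMap_apply P Pa T, Ideal.Quotient.algebraMap_eq,
        Ideal.Quotient.eq_zero_iff_mem]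
      exact Ideal.mem_map_of_mem _ (Ideal.mem_sup_right (Ideal.mem_map_of_mem _ hj)))).toAlgebra
    haveI : IsScalarTower A (A ⧸ J) T := IsScalarTower.of_algebraMap_eq fun _ => rfl
    let πT' : T →ₐ[A ⧸ J] Ba := AlgHom.mk πT.toRingHom (fun x => by
      obtain ⟨x, rfl⟩ := Ideal.Quotient.mk_surjective x
      exact (πT.commutes x).trans (IsScalarTower.algebraMap_apply A (A ⧸ J) Ba x))
    have hπTsurj : Function.Surjective πT' := by
      intro b
      obtain ⟨⟨u, ⟨_, m, rfl⟩⟩, hu⟩ := IsLocalization.surj (Submonoid.powers (algebraMap A B₀ a)) b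
      obtain ⟨u, rfl⟩ := hπ u
      obtain ⟨inv, hinv⟩ := (IsLocalization.Away.algebraMap_isUnit (S := Pa) (MvPolynomial.C a : P)).pow m |>.exists_right_inv
      refine ⟨Ideal.Quotient.mk S (algebraMap P Pa u * inv), ?_⟩
      show πa (algebraMap P Pa u * inv) = b
      have h1 : ι (algebraMap A B₀ a) ^ m * πa inv = 1 := by
        have := congrArg πa hinv
        rwa [map_mul, map_pow, hπa, map_one, hπC] at this
      rw [map_mul, hπa, show ι (π u) = b * algebraMap B₀ Ba (algebraMap A B₀ a ^ m) from hu.symm, map_pow,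
        show algebraMap B₀ Ba (algebraMap A B₀ a) = ι (algebraMap A B₀ a) from rfl, mul_assoc, h1, mul_one]
    have hnil2 : (kerT : Ideal T) ^ 2 = ⊥ := by
      rw [pow_two, eq_bot_iff, Ideal.mul_le]
      exact fun u hu u' hu' => (Ideal.mem_bot).mpr (hTnil u hu u' hu')
    have hnilT : IsNilpotent (RingHom.ker πT'.toRingHom) := ⟨2, hnil2⟩
    let sec : Ba →ₐ[A ⧸ J] T := Algebra.FormallySmooth.liftOfSurjective (AlgHom.id (A ⧸ J) Ba) πT' hπTsurj hnilT
    have hsec : ∀ b, πT' (sec b) = b := fun b =>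
      Algebra.FormallySmooth.liftOfSurjective_apply (AlgHom.id (A ⧸ J) Ba) πT' hπTsurj hnilT b
    let τ : P →ₐ[A] T := (Ideal.Quotient.mkₐ A S).comp (IsScalarTower.toAlgHom A P Pa)
    have hτC : ∀ c : A, τ (MvPolynomial.C c) = algebraMap A T c := fun c => τ.commutes c
    let xT : Fin n → T := fun i => sec (ι (π (MvPolynomial.X i)))
    let δ : Fin n → T := fun i => τ (MvPolynomial.X i) - xT i
    have hδ : ∀ i, δ i ∈ kerT := fun i => by
      show πT (τ (MvPolynomial.X i) - xT i) = 0
      rw [map_sub, sub_eq_zero]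
      exact (hπa _).trans (hsec _).symm
    have hTaylor : ∀ z ∈ L, τ z = ∑ i, τ (MvPolynomial.pderiv i z) * δ i := by
      intro z hz
      have h1 : τ z = MvPolynomial.aeval (fun i => xT i + δ i) z := by
        refine AlgHom.congr_fun (MvPolynomial.algHom_ext fun i => ?_) z
        simp [δ]
      have h2 : ∀ z, MvPolynomial.aeval xT z = sec (ι (π z)) := fun z =>
        AlgHom.congr_fun (show MvPolynomial.aeval xT = ((sec.restrictScalars A).comp ι).comp π from
          MvPolynomial.algHom_ext fun i => by simp [xT]) z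
      rw [h1, Tools.aeval_add xT δ (fun i j => hTnil _ (hδ i) _ (hδ j)), h2, show π z = 0 from hz, map_zero, map_zero, zero_add]
      refine Finset.sum_congr rfl fun i _ => ?_
      rw [← sub_eq_zero, ← sub_mul]
      refine hTnil _ ?_ _ (hδ i)
      show πT (MvPolynomial.aeval xT _ - τ _) = 0
      rw [map_sub, sub_eq_zero, h2]
      exact (hsec _).trans (hπa _).symm
    -- clear denominators
    have hδ' : ∀ i, ∃ (N : ℕ) (l : L), algebraMap A T a ^ N * δ i = τ (l : P) := fun i => by
      obtain ⟨d, hd, hdδ⟩ := (Ideal.mem_map_iff_of_surjective _ Ideal.Quotient.mk_surjective).mp (hkerT (hδ i))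
      obtain ⟨⟨l, ⟨_, N, rfl⟩⟩, hl⟩ := (IsLocalization.mem_map_algebraMap_iff (Submonoid.powers (MvPolynomial.C a : P)) Pa).mp hd
      refine ⟨N, l, ?_⟩
      rw [← hdδ]
      show algebraMap A T a ^ N * Ideal.Quotient.mk S d = Ideal.Quotient.mk S (algebraMap P Pa (l : P))
      rw [← hl, map_mul, map_pow, map_pow, mul_comm]
      rfl
    choose Nd ld hld using hδ'
    let N₁ := ∑ i, Nd i
    let lN : Fin n → L := fun i => (MvPolynomial.C a ^ (N₁ - Nd i) : P) • ld i
    have hlN : ∀ i, τ (lN i : P) = algebraMap A T a ^ N₁ * δ i := fun i => by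
      have hle : Nd i ≤ N₁ := Finset.single_le_sum (fun j _ => Nat.zero_le (Nd j)) (Finset.mem_univ i)
      show τ (MvPolynomial.C a ^ (N₁ - Nd i) * (ld i : P)) = _
      rw [map_mul, map_pow, hτC, ← hld, ← mul_assoc, ← pow_add,
        Nat.sub_add_cancel hle]
    let rem : Fin r → P := fun t => MvPolynomial.C a ^ N₁ * f t - ∑ i, MvPolynomial.pderiv i (f t) * (lN i : P)
    have hrem : ∀ t, ∃ N, MvPolynomial.C a ^ N * rem t ∈ L ^ 2 ⊔ J.map (algebraMap A P) := fun t => by
      have h1 : τ (rem t) = 0 := by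
        simp only [rem, map_sub, map_mul, map_pow, map_sum, hlN]
        rw [hτC, hTaylor _ (hfL t), Finset.mul_sum, sub_eq_zero]
        exact Finset.sum_congr rfl fun i _ => by ring
      have h2 : algebraMap P Pa (rem t) ∈ S := Ideal.Quotient.eq_zero_iff_mem.mp h1
      obtain ⟨⟨u, ⟨_, N, rfl⟩⟩, hu⟩ := (IsLocalization.mem_map_algebraMap_iff (Submonoid.powers (MvPolynomial.C a : P)) Pa).mp h2
      rw [← map_mul] at hu
      obtain ⟨⟨_, N', rfl⟩, hN'⟩ := (IsLocalization.eq_iff_exists (Submonoid.powers (MvPolynomial.C a : P)) Pa).mp hu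
      refine ⟨N' + N, ?_⟩
      have h3' : MvPolynomial.C a ^ (N' + N) * rem t = MvPolynomial.C a ^ N' * (u : P) := by
        rw [← hN', pow_add]; ring
      rw [h3']
      exact Ideal.mul_mem_left _ _ u.2
    choose Nr hNr using hrem
    let N₂ := ∑ t, Nr t
    -- the functional attached to `v`
    letI : Module P M := Module.compHom M π.toRingHom
    have hlin : ∀ (z : Fin r → P), Fintype.linearCombination P f z = 0 → ∑ t, π (z t) • v t = 0 := by
      intro z hz
      obtain ⟨d, rfl⟩ := (Submodule.mem_span_range_iff_exists_fun P).mp (hρ.ge (LinearMap.mem_ker.mpr hz))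
      simp only [Finset.sum_apply, Pi.smul_apply, smul_eq_mul, map_sum, map_mul, Finset.sum_smul, mul_smul]
      rw [Finset.sum_comm]
      refine Finset.sum_eq_zero fun l _ => ?_
      rw [← Finset.smul_sum]
      have := congrFun hv (Sum.inl l)
      rw [hΦ₁, Pi.zero_apply] at this
      rw [show ∑ t, π (ρ l t) • v t = 0 from this, smul_zero]
    have hVj : ∀ k, ∑ t, π (ev k t) • v t = 0 := fun k => by
      have := congrFun hv (Sum.inr k)
      rwa [hΦ₁, Pi.zero_apply] at this
    have hcoef : ∀ l : L, ∃ z : Fin r → P, ∑ t, z t * f t = (l : P) := fun l =>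
      Ideal.mem_span_range_iff_exists_fun.mp (hf.ge l.2)
    choose coef hcoef using hcoef
    let V : L → M := fun l => ∑ t, π (coef l t) • v t
    have hV : ∀ (l : L) (z : Fin r → P), ∑ t, z t * f t = (l : P) → V l = ∑ t, π (z t) • v t := fun l z hz => by
      have h := hlin (fun t => coef l t - z t)
        (by simp only [Fintype.linearCombination_apply, smul_eq_mul, sub_mul, Finset.sum_sub_distrib, hcoef, hz, sub_self])
      simp only [map_sub, sub_smul, Finset.sum_sub_distrib] at h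
      exact sub_eq_zero.mp h
    have hVS : ∀ z ∈ L ^ 2 ⊔ J.map (algebraMap A P), ∀ hz : z ∈ L, V ⟨z, hz⟩ = 0 := by
      intro z hz hzL
      obtain ⟨z₁, h1, z₂, h2, rfl⟩ := Submodule.mem_sup.mp hz
      have e1 : ∃ d : Fin r → P, (∀ t, d t ∈ L) ∧ ∑ t, d t * f t = z₁ := by
        rw [pow_two] at h1
        have h1' : z₁ ∈ L • Submodule.span P (Set.range f) := by rw [hf]; exact h1
        rw [Submodule.mem_ideal_smul_span_iff_exists_sum] at h1'
        obtain ⟨d, hd, rfl⟩ := h1'
        refine ⟨fun t => d t, hd, ?_⟩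
        rw [Finsupp.sum_fintype]
        · rfl
        · intros; exact zero_smul _ _
      obtain ⟨d, hd, rfl⟩ := e1
      have e2 : ∃ b : Fin q → P, ∑ k, b k * MvPolynomial.C (g k) = z₂ := by
        have : J.map (algebraMap A P) = Ideal.span (Set.range fun k => MvPolynomial.C (g k)) := by
          rw [← hg, Ideal.map_span, ← Set.range_comp]; rfl
        exact Ideal.mem_span_range_iff_exists_fun.mp (this ▸ h2)
      obtain ⟨b, rfl⟩ := e2
      rw [hV _ (fun t => d t + ∑ k, b k * ev k t) (by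
        simp only [add_mul, Finset.sum_add_distrib]
        congr 1
        rw [Finset.sum_congr rfl fun x _ => Finset.sum_mul Finset.univ _ _, Finset.sum_comm]
        exact Finset.sum_congr rfl fun k _ => by simp only [mul_assoc]; rw [← Finset.mul_sum, hev])]
      simp only [map_add, map_sum, map_mul, show ∀ t, π (d t) = 0 from hd, zero_add, Finset.sum_smul, mul_smul]
      rw [Finset.sum_comm]
      simp only [← Finset.smul_sum, hVj, smul_zero, Finset.sum_const_zero]
    refine ⟨N₂ + N₁, fun i => algebraMap A B₀ a ^ N₂ • V (lN i), funext fun t => ?_⟩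
    have hle : Nr t ≤ N₂ := Finset.single_le_sum (fun j _ => Nat.zero_le (Nr j)) (Finset.mem_univ t)
    have h4 : MvPolynomial.C a ^ N₂ * rem t ∈ L ^ 2 ⊔ J.map (algebraMap A P) := by
      rw [← Nat.sub_add_cancel hle, pow_add, mul_assoc]
      exact Ideal.mul_mem_left _ _ (hNr t)
    have h5 : MvPolynomial.C a ^ N₂ * rem t ∈ L := Ideal.mul_mem_left _ _
      (sub_mem (Ideal.mul_mem_left _ _ (hfL t)) (sum_mem fun i _ => Ideal.mul_mem_left _ _ (lN i).2))
    have h6 := hVS _ h4 h5
    rw [hV _ (fun s => MvPolynomial.C a ^ N₂ * ((if s = t then MvPolynomial.C a ^ N₁ else 0) -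
      ∑ i, MvPolynomial.pderiv i (f t) * coef (lN i) s)) (by
        simp only [rem, mul_assoc, ← Finset.mul_sum, sub_mul, Finset.sum_sub_distrib, ite_mul, zero_mul, Finset.sum_ite_eq',
          Finset.mem_univ, if_true]
        congr 2
        rw [Finset.sum_congr rfl fun x _ => Finset.sum_mul Finset.univ _ _, Finset.sum_comm]
        exact Finset.sum_congr rfl fun i _ => by simp only [mul_assoc]; rw [← Finset.mul_sum, hcoef])] at h6
    simp only [map_mul, map_pow, hπC, mul_smul, ← Finset.smul_sum, map_sub,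
      sub_smul, Finset.sum_sub_distrib, map_sum, Finset.sum_smul, apply_ite π, map_zero, ite_smul, zero_smul,
      Finset.sum_ite_eq', Finset.mem_univ, if_true] at h6
    rw [Finset.sum_comm, smul_sub, sub_eq_zero] at h6
    simp only [← Finset.smul_sum] at h6
    rw [hDm, Pi.smul_apply, pow_add, mul_smul, h6, Finset.smul_sum]
    exact Finset.sum_congr rfl fun i _ => smul_comm _ _ _
  have hQkill : ∃ k, ∀ b ∈ I₀ ^ k, ∀ x : Q, b • x = 0 := by
    have hrad : I₀ ≤ (Module.annihilator B₀ Q).radical := by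
      refine Ideal.map_le_iff_le_comap.mpr fun a ha => ?_
      obtain ⟨s, gens, hgens⟩ := Module.Finite.exists_fin (R := B₀) (M := Q)
      choose gen' hgen' using fun l => Submodule.Quotient.mk_surjective _ (gens l)
      choose Nl ml hml using fun l => hQa a ha (gen' l : Fin r → M) (gen' l).2
      refine ⟨∑ l, Nl l, Module.mem_annihilator.mpr fun x => ?_⟩
      obtain ⟨c, rfl⟩ := (Submodule.mem_span_range_iff_exists_fun B₀).mp (hgens.ge (Submodule.mem_top (x := x)))
      rw [Finset.smul_sum]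
      refine Finset.sum_eq_zero fun l _ => ?_
      have hle : Nl l ≤ ∑ i, Nl i := Finset.single_le_sum (fun j _ => Nat.zero_le (Nl j)) (Finset.mem_univ l)
      rw [smul_comm, ← hgen' l, ← Nat.sub_add_cancel hle, pow_add, mul_smul, ← Submodule.Quotient.mk_smul,
        show Submodule.Quotient.mk (algebraMap A B₀ a ^ Nl l • gen' l) = (0 : Q) from
          (Submodule.Quotient.mk_eq_zero _).mpr ⟨ml l, Subtype.ext (hml l).symm⟩,
        smul_zero, smul_zero]
    obtain ⟨k, hk'⟩ := Ideal.exists_pow_le_of_le_radical_of_fg hrad (IsNoetherian.noetherian I₀)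
    exact ⟨k, fun b hb x => Module.mem_annihilator.mp (hk' hb) x⟩
  -- residual equation
  have hθ' : ∀ i, (0 : C₀) • ψ (w i) + ∑ t, W i t • (θ t - ψ (v₀ t)) = 0 := by
    intro i
    simp only [zero_smul, zero_add, smul_sub, Finset.sum_sub_distrib, ← map_smul, ← map_sum]
    have h1 := congrFun hv₀ i
    rw [show Φ = SolSystem.sys W w from rfl, SolSystem.sys_apply, Pi.zero_apply, one_smul, add_comm, add_eq_zero_iff_eq_neg] at h1
    rw [h1, map_neg, sub_neg_eq_add]
    have h2 := hθeq i
    rw [one_smul, add_comm] at h2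
    exact h2
  obtain ⟨ι₂, s₂, c₂, sol₂, hsol₂, hsum₂, hval₂⟩ := SolSystem.exists_solutions ψ hψbij W w (0 : C₀) (fun t => θ t - ψ (v₀ t)) hθ'
  -- the residual lies over `ker Φ₁`
  let V₀ : ι₂ → LinearMap.ker Φ₁ := fun i => ⟨(sol₂ i).2 - (sol₂ i).1 • v₀, by
    have e1 : Φ₁ ((sol₂ i).2 - (sol₂ i).1 • v₀) = Φ (sol₂ i) - (sol₂ i).1 • Φ (1, v₀) := by
      rw [← map_smul, ← map_sub]
      show Φ (0, _) = _
      congr 1
      simp [Prod.ext_iff, smul_eq_mul]
    rw [LinearMap.mem_ker, e1, hsol₂, hv₀, smul_zero, sub_zero]⟩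
  have hV₀ : ∀ t, ∑ i ∈ s₂, c₂ i • ψ ((V₀ i : Fin r → M) t) = θ t - ψ (v₀ t) := by
    intro t
    simp only [V₀, Pi.sub_apply, Pi.smul_apply, map_sub, map_smul, smul_sub, Finset.sum_sub_distrib, hval₂]
    have h1 : ∑ i ∈ s₂, c₂ i • (sol₂ i).1 • ψ (v₀ t) = 0 := by
      simp only [← algebraMap_smul C₀ ((sol₂ _).1), smul_smul, ← Finset.sum_smul, hsum₂, zero_smul]
    rw [h1, sub_zero]
  obtain ⟨kQ, hkQ⟩ := hQkill
  obtain ⟨qQ, hqQ⟩ := (Groth.Agent.Lib.TorExt36.Descent.bijective_of_pow_killed hs hk kQ Q hkQ).2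
    (∑ i ∈ s₂, c₂ i ⊗ₜ[B₀] (Submodule.Quotient.mk (V₀ i) : Q))
  obtain ⟨wst, rfl⟩ := Submodule.Quotient.mk_surjective _ qQ
  have hz : (LinearMap.range D').mkQ.lTensor C₀ (∑ i ∈ s₂, c₂ i ⊗ₜ[B₀] V₀ i - (1 : C₀) ⊗ₜ[B₀] wst) = 0 := by
    rw [map_sub, map_sum, sub_eq_zero]
    simp only [LinearMap.lTensor_tmul, Submodule.mkQ_apply]
    exact hqQ.symm
  obtain ⟨zD, hzD⟩ := (lTensor_exact C₀ (show Function.Exact D' (LinearMap.range D').mkQ from
    LinearMap.exact_map_mkQ_range D') (LinearMap.range D').mkQ_surjective _).mp hz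
  let proj : Fin r → (LinearMap.ker Φ₁ →ₗ[B₀] M) := fun t => (LinearMap.proj t).comp (Submodule.subtype _)
  let v : Fin r → M := v₀ + (wst : Fin r → M)
  let dX : Fin n → X := fun i => ψ.liftBaseChange C₀ ((LinearMap.proj i).lTensor C₀ zD)
  have hres : ∀ t, θ t - ψ (v t) = ∑ i, π (MvPolynomial.pderiv i (f t)) • dX i := by
    intro t
    have h1 := congrArg (fun z => ψ.liftBaseChange C₀ ((proj t).lTensor C₀ z)) hzD
    simp only [map_sub, map_sum, LinearMap.lTensor_tmul, LinearMap.liftBaseChange_tmul, one_smul] at h1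
    have h2 : ∑ i ∈ s₂, c₂ i • ψ (proj t (V₀ i)) = θ t - ψ (v₀ t) := hV₀ t
    rw [h2, ← LinearMap.comp_apply ((proj t).lTensor C₀), ← LinearMap.lTensor_comp] at h1
    have h3' : (proj t).comp D' = ∑ i, π (MvPolynomial.pderiv i (f t)) • LinearMap.proj i := by
      refine LinearMap.ext fun m => ?_
      simp only [proj, LinearMap.comp_apply, D', Submodule.subtype_apply, LinearMap.proj_apply, LinearMap.sum_apply,
        LinearMap.smul_apply]
      exact hDm m t
    rw [h3', ← LinearMap.coe_lTensorHom, map_sum, LinearMap.sum_apply, map_sum] at h1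
    simp only [map_smul, LinearMap.coe_lTensorHom, LinearMap.smul_apply, LinearMap.map_smul_of_tower] at h1
    show θ t - ψ (v₀ t + (wst : Fin r → M) t) = _
    rw [map_add, ← sub_sub]
    exact h1.symm
  -- the algebra
  letI : Module P M := Module.compHom M π.toRingHom
  have hΦv : ∀ i, w i + ∑ t, W i t • v t = 0 := by
    intro i
    have h1 := congrFun hv₀ i
    have h2 := congrFun (LinearMap.mem_ker.mp wst.2) i
    rw [hΦ₁] at h2
    rw [show Φ = SolSystem.sys W w from rfl, SolSystem.sys_apply, one_smul] at h1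
    simp only [v, Pi.add_apply, smul_add, Finset.sum_add_distrib, ← add_assoc]
    simp only [Pi.zero_apply] at h1 h2
    rw [h1, h2, add_zero]
  have hcoef : ∀ l : L, ∃ z : Fin r → P, ∑ t, z t * f t = (l : P) := fun l =>
    Ideal.mem_span_range_iff_exists_fun.mp (hf.ge l.2)
  choose coef hcoef using hcoef
  have hσwd : ∀ (z : Fin r → P), Fintype.linearCombination P f z = 0 → ∑ t, π (z t) • v t = 0 := by
    intro z hz
    obtain ⟨d, rfl⟩ := (Submodule.mem_span_range_iff_exists_fun P).mp (hρ.ge (LinearMap.mem_ker.mpr hz))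
    simp only [Finset.sum_apply, Pi.smul_apply, smul_eq_mul, map_sum, map_mul, Finset.sum_smul, mul_smul]
    rw [Finset.sum_comm]
    refine Finset.sum_eq_zero fun l _ => ?_
    rw [← Finset.smul_sum]
    have := hΦv (Sum.inl l)
    simp only [w, W, Sum.elim_inl, zero_add] at this
    rw [this, smul_zero]
  have hσ : ∀ (l : L) (z : Fin r → P), ∑ t, z t * f t = (l : P) → ∑ t, π (coef l t) • v t = ∑ t, π (z t) • v t := fun l z hz => by
    have h := hσwd (fun t => coef l t - z t)
      (by simp only [Fintype.linearCombination_apply, smul_eq_mul, sub_mul, Finset.sum_sub_distrib, hcoef, hz, sub_self])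
    simp only [map_sub, sub_smul, Finset.sum_sub_distrib] at h
    exact sub_eq_zero.mp h
  let σ : L →ₗ[P] M :=
    { toFun := fun l => ∑ t, π (coef l t) • v t
      map_add' := fun l l' => by
        rw [hσ (l + l') (fun t => coef l t + coef l' t) (by simp [add_mul, Finset.sum_add_distrib, hcoef])]
        simp only [map_add, add_smul, Finset.sum_add_distrib]
      map_smul' := fun c l => by
        rw [hσ (c • l) (fun t => c * coef l t) (by simp [mul_assoc, ← Finset.mul_sum, hcoef])]
        simp only [map_mul, mul_smul, ← Finset.smul_sum]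
        rfl }
  have hσJ : ∀ k, σ ⟨MvPolynomial.C (g k), hCg k⟩ = jM ⟨g k, hgJ k⟩ := fun k => by
    refine (hσ _ (ev k) (hev k)).trans ?_
    have := hΦv (Sum.inr k)
    simp only [w, W, Sum.elim_inr, neg_add_eq_zero] at this
    exact this.symm
  -- every element of `M` is a combination of the generators of `J`
  have hMgen : ∀ m : M, ∃ b : Fin q → P, ∑ k, π (b k) • jM ⟨g k, hgJ k⟩ = m := by
    intro m
    obtain ⟨m, rfl⟩ := Submodule.Quotient.mk_surjective _ m
    induction m using TensorProduct.induction_on with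
    | zero => exact ⟨0, by simp⟩
    | add u v hu hv =>
      obtain ⟨bu, hu⟩ := hu
      obtain ⟨bv, hv⟩ := hv
      exact ⟨bu + bv, by simp [add_smul, Finset.sum_add_distrib, hu, hv]⟩
    | tmul b j =>
      obtain ⟨c, hc⟩ := (Submodule.mem_span_range_iff_exists_fun A).mp (hg.ge j.2)
      obtain ⟨b, rfl⟩ := hπ b
      refine ⟨fun k => b * MvPolynomial.C (c k), ?_⟩
      have hj : j = ∑ k, c k • (⟨g k, hgJ k⟩ : J) := Subtype.ext (by simp [← hc])
      show _ = K'.mkQ (π b ⊗ₜ[A] j)
      rw [hj, tmul_sum, map_sum]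
      refine Finset.sum_congr rfl fun k _ => ?_
      show π (b * MvPolynomial.C (c k)) • K'.mkQ ((1 : B₀) ⊗ₜ[A] _) = _
      rw [← map_smul]
      congr 1
      rw [map_mul, hπC, mul_smul, algebraMap_smul, TensorProduct.smul_tmul',
        TensorProduct.smul_tmul', TensorProduct.tmul_smul, TensorProduct.smul_tmul']
      simp [smul_eq_mul]
  let Kσ : Ideal P := Submodule.map L.subtype (LinearMap.ker σ)
  have hKσL : Kσ ≤ L := by rintro _ ⟨l, -, rfl⟩; exact l.2
  have hKσ : ∀ l : L, (l : P) ∈ Kσ ↔ σ l = 0 := fun l =>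
    ⟨fun ⟨l', hl', e'⟩ => (Subtype.ext e' : l' = l) ▸ hl', fun h => ⟨l, h, rfl⟩⟩
  let B : Type u := P ⧸ Kσ
  let φ' : P →ₐ[A] C := MvPolynomial.aeval (fun i => cs i + -((dX i : X) : C))
  have hφ'mk : ∀ z, Ideal.Quotient.mk J' (φ' z) = algebraMap B₀ C₀ (π z) := fun z =>
    AlgHom.congr_fun (show (Ideal.Quotient.mkₐ A J').comp φ' = (IsScalarTower.toAlgHom A B₀ C₀).comp π from
      MvPolynomial.algHom_ext fun i => by
        have h0 : Ideal.Quotient.mk J' ((dX i : X) : C) = 0 := Ideal.Quotient.eq_zero_iff_mem.mpr (dX i : J').2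
        simp [φ', hcs, h0]) z
  have hsmul' : ∀ (z : P) (x : X), ((π z • x : X) : C) = φ' z * (x : C) := fun z x => by
    show ((algebraMap B₀ C₀ (π z) • x : X) : C) = _
    rw [← hφ'mk, hmk]
  have hfv : ∀ t, φ' (f t) = ((ψ (v t) : X) : C) := by
    intro t
    rw [show φ' (f t) = _ from Tools.aeval_add cs (fun i => -((dX i : X) : C))
      (fun i j => by rw [neg_mul_neg]; exact hprod _ (dX i : J').2 _ (dX j : J').2) (f t)]
    have h1 := congrArg (fun x : X => (x : C)) (hres t)
    have hsum' : ∀ (s : Finset (Fin n)), ((∑ i ∈ s, π (MvPolynomial.pderiv i (f t)) • dX i : X) : C) =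
        ∑ i ∈ s, φ (MvPolynomial.pderiv i (f t)) * ((dX i : X) : C) := by
      intro s
      induction s using Finset.induction_on with
      | empty => simp
      | insert a s ha ih =>
        rw [Finset.sum_insert ha, Finset.sum_insert ha, ← ih, ← hsmulX]
        rfl
    rw [hsum'] at h1
    have h2 : φ (f t) - ((ψ (v t) : X) : C) = ∑ i, φ (MvPolynomial.pderiv i (f t)) * ((dX i : X) : C) := h1
    simp only [mul_neg, Finset.sum_neg_distrib]
    show φ (f t) + -∑ i, φ (MvPolynomial.pderiv i (f t)) * _ = _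
    rw [← h2]; ring
  have hφσ : ∀ l : L, φ' (l : P) = ((ψ (σ l) : X) : C) := by
    intro l
    rw [show σ l = ∑ t, π (coef l t) • v t from rfl, map_sum, ← hcoef l, map_sum]
    have h0 : ∀ (s : Finset (Fin r)), ∑ t ∈ s, φ' (coef l t * f t) = ((∑ t ∈ s, ψ (π (coef l t) • v t) : X) : C) := by
      intro s
      induction s using Finset.induction_on with
      | empty => simp
      | insert a s ha ih =>
        rw [Finset.sum_insert ha, Finset.sum_insert ha, ih, map_mul, hfv, map_smul, ← hsmul']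
        rfl
    exact h0 Finset.univ
  let toC : B →ₐ[A] C := Ideal.Quotient.liftₐ Kσ φ' (fun z hz => by
    obtain ⟨l, hl, rfl⟩ := hz
    rw [Submodule.subtype_apply, hφσ, LinearMap.mem_ker.mp hl, map_zero]
    rfl)
  let toB₀ : B →ₐ[A] B₀ := Ideal.Quotient.liftₐ Kσ π (fun z hz => hKσL hz)
  letI : Algebra B C := toC.toRingHom.toAlgebra
  letI : Algebra B B₀ := toB₀.toRingHom.toAlgebra
  haveI : IsScalarTower A B C := IsScalarTower.of_algebraMap_eq fun x => (toC.commutes x).symm
  haveI : IsScalarTower A B B₀ := IsScalarTower.of_algebraMap_eq fun x => (toB₀.commutes x).symm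
  have hsurjB : Function.Surjective (algebraMap B B₀) := fun b => by
    obtain ⟨z, rfl⟩ := hπ b
    exact ⟨Ideal.Quotient.mk _ z, rfl⟩
  have hkerB : RingHom.ker (algebraMap B B₀) = J.map (algebraMap A B) := by
    refine le_antisymm (fun z hz => ?_) (Ideal.map_le_iff_le_comap.mpr fun j hj => ?_)
    · obtain ⟨z, rfl⟩ := Ideal.Quotient.mk_surjective z
      obtain ⟨b, hb⟩ := hMgen (σ ⟨z, hz⟩)
      have h1 : z - ∑ k, b k * MvPolynomial.C (g k) ∈ Kσ := by
        refine (hKσ ⟨z - ∑ k, b k * MvPolynomial.C (g k), sub_mem hz (sum_mem fun k _ => Ideal.mul_mem_left _ _ (hCg k))⟩).mpr ?_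
        have e1 : (⟨z - ∑ k, b k * MvPolynomial.C (g k), sub_mem hz (sum_mem fun k _ => Ideal.mul_mem_left _ _ (hCg k))⟩ : L) =
            ⟨z, hz⟩ - ∑ k, b k • (⟨MvPolynomial.C (g k), hCg k⟩ : L) := Subtype.ext (by simp)
        rw [e1, map_sub, map_sum, sub_eq_zero, ← hb]
        simp only [map_smul, hσJ]
        rfl
      rw [Ideal.Quotient.eq.mpr h1, map_sum]
      refine sum_mem fun k _ => ?_
      rw [map_mul]
      exact Ideal.mul_mem_left _ _ (Ideal.mem_map_of_mem _ (hgJ k))
    · rw [Ideal.mem_comap, RingHom.mem_ker, ← IsScalarTower.algebraMap_apply, hJB₀ j hj]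
  have hcompat : ∀ b : B, algebraMap B₀ C₀ (algebraMap B B₀ b) = Ideal.Quotient.mk J' (algebraMap B C b) := fun b => by
    obtain ⟨z, rfl⟩ := Ideal.Quotient.mk_surjective b
    exact (hφ'mk z).symm
  have hBnorm : ∀ (b : Fin q → P), ∑ k, π (b k) • jM ⟨g k, hgJ k⟩ = 0 →
      (∑ k, Ideal.Quotient.mk Kσ (b k * MvPolynomial.C (g k)) : B) = 0 := by
    intro b hb
    rw [← map_sum, Ideal.Quotient.eq_zero_iff_mem]
    refine (hKσ ⟨∑ k, b k * MvPolynomial.C (g k), sum_mem fun k _ => Ideal.mul_mem_left _ _ (hCg k)⟩).mpr ?_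
    have e1 : (⟨∑ k, b k * MvPolynomial.C (g k), sum_mem fun k _ => Ideal.mul_mem_left _ _ (hCg k)⟩ : L) =
        ∑ k, b k • (⟨MvPolynomial.C (g k), hCg k⟩ : L) := Subtype.ext (by simp)
    rw [e1, map_sum]
    simp only [map_smul, hσJ]
    exact hb
  have hBM : ∀ (b : Fin q → P), (∑ k, Ideal.Quotient.mk Kσ (b k * MvPolynomial.C (g k)) : B) = 0 →
      ∑ k, π (b k) • jM ⟨g k, hgJ k⟩ = 0 := by
    intro b hb
    rw [← map_sum, Ideal.Quotient.eq_zero_iff_mem] at hb
    have h1 := (hKσ ⟨∑ k, b k * MvPolynomial.C (g k), sum_mem fun k _ => Ideal.mul_mem_left _ _ (hCg k)⟩).mp hb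
    have e1 : (⟨∑ k, b k * MvPolynomial.C (g k), sum_mem fun k _ => Ideal.mul_mem_left _ _ (hCg k)⟩ : L) =
        ∑ k, b k • (⟨MvPolynomial.C (g k), hCg k⟩ : L) := Subtype.ext (by simp)
    rw [e1, map_sum] at h1
    simp only [map_smul, hσJ] at h1
    exact h1
  -- `B → C` is étale
  let JB : Ideal B := J.map (algebraMap A B)
  have hJB : JB * JB = ⊥ := by rw [← Ideal.map_mul, hJ, Ideal.map_bot]
  have hJC : JB.map (algebraMap B C) = J' := by rw [Ideal.map_map, ← IsScalarTower.algebraMap_eq]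
  let e₁ : (B ⧸ JB) ≃+* B₀ := (Ideal.quotEquivOfEq hkerB.symm).trans (RingHom.quotientKerEquivOfSurjective hsurjB)
  let e₂ : C₀ ≃+* (C ⧸ JB.map (algebraMap B C)) := Ideal.quotEquivOfEq hJC.symm
  haveI hetale : Algebra.Etale (B ⧸ JB) (C ⧸ JB.map (algebraMap B C)) := by
    let ee₁ : (B ⧸ JB) →+* B₀ := e₁.toRingHom
    let ee₂ : C₀ →+* (C ⧸ JB.map (algebraMap B C)) := e₂.toRingHom
    have he1 : @RingHom.Etale (B ⧸ JB) B₀ _ _ ee₁ := by apply RingHom.Etale.of_bijective; exact e₁.bijective
    have he2 : @RingHom.Etale C₀ (C ⧸ JB.map (algebraMap B C)) _ _ ee₂ := by apply RingHom.Etale.of_bijective; exact e₂.bijective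
    have hm : (algebraMap B₀ C₀).Etale := RingHom.etale_algebraMap.mpr inferInstance
    have h := RingHom.Etale.stableUnderComposition _ _ (RingHom.Etale.stableUnderComposition _ _ he1 hm) he2
    rw [← RingHom.etale_algebraMap]
    convert h using 1
    refine Ideal.Quotient.ringHom_ext (RingHom.ext fun b => ?_)
    show Ideal.Quotient.mk _ (algebraMap B C b) = e₂ (algebraMap B₀ C₀ (algebraMap B B₀ b))
    rw [hcompat]
    rfl
  -- normal forms in `G`
  have hGnorm : ∀ x : G, ∃ b : Fin q → P, x = ∑ k, π (b k) ⊗ₜ[A] (⟨g k, hgJ k⟩ : J) := by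
    intro x
    induction x using TensorProduct.induction_on with
    | zero => exact ⟨0, by simp⟩
    | add u v hu hv =>
      obtain ⟨bu, rfl⟩ := hu
      obtain ⟨bv, rfl⟩ := hv
      exact ⟨bu + bv, by simp [add_tmul, Finset.sum_add_distrib]⟩
    | tmul b j =>
      obtain ⟨c, hc⟩ := (Submodule.mem_span_range_iff_exists_fun A).mp (hg.ge j.2)
      obtain ⟨b, rfl⟩ := hπ b
      refine ⟨fun k => b * MvPolynomial.C (c k), ?_⟩
      have hj : j = ∑ k, c k • (⟨g k, hgJ k⟩ : J) := Subtype.ext (by simp [← hc])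
      rw [hj, tmul_sum]
      refine Finset.sum_congr rfl fun k _ => ?_
      rw [tmul_smul, smul_tmul', map_mul, hπC, Algebra.smul_def, mul_comm]
  -- `M → JB`
  let gB : Fin q → JB := fun k => ⟨algebraMap A B (g k), Ideal.mem_map_of_mem _ (hgJ k)⟩
  choose bM hbM using hMgen
  let εf : M → JB := fun m => ∑ k, Ideal.Quotient.mk Kσ (bM m k) • gB k
  have hεcoe : ∀ (b : Fin q → P), ((∑ k, Ideal.Quotient.mk Kσ (b k) • gB k : JB) : B) =
      ∑ k, Ideal.Quotient.mk Kσ (b k * MvPolynomial.C (g k)) := by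
    intro b
    rw [Submodule.coe_sum]
    refine Finset.sum_congr rfl fun k _ => ?_
    rw [map_mul]
    rfl
  have hεwd : ∀ (b : Fin q → P) (m : M), ∑ k, π (b k) • jM ⟨g k, hgJ k⟩ = m →
      εf m = ∑ k, Ideal.Quotient.mk Kσ (b k) • gB k := by
    intro b m hb
    apply Subtype.ext
    show ((∑ k, Ideal.Quotient.mk Kσ (bM m k) • gB k : JB) : B) = _
    rw [hεcoe, hεcoe, ← sub_eq_zero, ← Finset.sum_sub_distrib]
    simp only [← map_sub, ← sub_mul]
    refine hBnorm (fun k => bM m k - b k) ?_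
    simp only [map_sub, sub_smul, Finset.sum_sub_distrib, hbM, hb, sub_self]
  let ε : M →+ JB := AddMonoidHom.mk' εf fun m m' => by
    rw [hεwd (bM m + bM m') (m + m') (by simp [add_smul, Finset.sum_add_distrib, hbM])]
    simp only [εf, Pi.add_apply, map_add, add_smul, Finset.sum_add_distrib]
  have hεsmul : ∀ (z : P) (m : M), ε (π z • m) = Ideal.Quotient.mk Kσ z • ε m := by
    intro z m
    show εf _ = _ • εf m
    rw [hεwd (fun k => z * bM m k) _ (by simp [mul_smul, ← Finset.smul_sum, hbM])]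
    apply Subtype.ext
    rw [hεcoe]
    show _ = Ideal.Quotient.mk Kσ z * ((∑ k, Ideal.Quotient.mk Kσ (bM m k) • gB k : JB) : B)
    rw [hεcoe, Finset.mul_sum]
    exact Finset.sum_congr rfl fun k _ => by rw [← map_mul, mul_assoc]
  have hεj : ∀ k, ε (jM ⟨g k, hgJ k⟩) = gB k := by
    intro k
    show εf _ = _
    rw [hεwd (Pi.single k 1) _ (by simp [Pi.single_apply, apply_ite π, ite_smul])]
    apply Subtype.ext
    rw [hεcoe, Finset.sum_eq_single k]
    · rw [Pi.single_eq_same, one_mul]; rfl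
    · intro j _ hj
      rw [Pi.single_eq_of_ne hj, zero_mul, map_zero]
    · exact fun h => absurd (Finset.mem_univ k) h
  have hBC : Algebra.Etale B C := by
    refine Tools.etale_of_square_zero JB hJB C fun μ hμ => ?_
    rw [injective_iff_map_eq_zero]
    intro z hz
    let mkC : C →+* C ⧸ JB.map (algebraMap B C) := Ideal.Quotient.mk _
    have hnorm : ∃ c : Fin q → C, z = ∑ k, mkC (c k) ⊗ₜ[B] gB k := by
      clear hz
      induction z using TensorProduct.induction_on with
      | zero => exact ⟨0, by simp⟩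
      | add u v hu hv =>
        obtain ⟨cu, rfl⟩ := hu
        obtain ⟨cv, rfl⟩ := hv
        exact ⟨cu + cv, by simp [add_tmul, Finset.sum_add_distrib]⟩
      | tmul c y =>
        obtain ⟨c, rfl⟩ := Ideal.Quotient.mk_surjective c
        have hy : (y : B) ∈ Ideal.span (Set.range fun k => algebraMap A B (g k)) := by
          have he : JB = Ideal.span (Set.range fun k => algebraMap A B (g k)) := by
            show J.map (algebraMap A B) = _
            rw [← hg, Ideal.map_span, ← Set.range_comp]; rfl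
          exact (SetLike.ext_iff.mp he _).mp y.2
        obtain ⟨b, hb⟩ := Ideal.mem_span_range_iff_exists_fun.mp hy
        refine ⟨fun k => algebraMap B C (b k) * c, ?_⟩
        have hy' : y = ∑ k, b k • gB k := Subtype.ext (by
          rw [Submodule.coe_sum, ← hb]
          exact Finset.sum_congr rfl fun k _ => rfl)
        rw [hy', tmul_sum]
        refine Finset.sum_congr rfl fun k _ => ?_
        exact (TensorProduct.smul_tmul (b k) _ (gB k)).symm.trans rfl
    obtain ⟨c, rfl⟩ := hnorm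
    let m₀ : C₀ ⊗[B₀] M := ∑ k, Ideal.Quotient.mk J' (c k) ⊗ₜ[B₀] jM ⟨g k, hgJ k⟩
    have hm₀ : ψ.liftBaseChange C₀ m₀ = 0 := by
      simp only [m₀, map_sum, LinearMap.liftBaseChange_tmul]
      apply Subtype.ext
      have h0 : ∀ s : Finset (Fin q), ((∑ k ∈ s, Ideal.Quotient.mk J' (c k) • ψ (jM ⟨g k, hgJ k⟩) : X) : C) =
          μ (∑ k ∈ s, mkC (c k) ⊗ₜ[B] gB k) := by
        intro s
        induction s using Finset.induction_on with
        | empty => simp
        | insert a s ha ih =>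
          rw [Finset.sum_insert ha, Finset.sum_insert ha, map_add, ← ih, hμ]
          show ((Ideal.Quotient.mk J' (c a) • ψ (jM ⟨g a, hgJ a⟩) : X) : C) + _ = _ + _
          rw [hmk, hψj]
          show c a * algebraMap A C (g a) + _ = c a * algebraMap B C (algebraMap A B (g a)) + _
          rw [← IsScalarTower.algebraMap_apply A B C]
      rw [h0, hz]
      rfl
    have hm₀' : m₀ = 0 := hψbij.1 (by rw [map_zero]; exact hm₀)
    let Tr : C₀ ⊗[B₀] M →+ (C ⧸ JB.map (algebraMap B C)) ⊗[B] JB := TensorProduct.liftAddHom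
      (AddMonoidHom.mk' (fun c₀ => AddMonoidHom.mk' (fun m => e₂ c₀ ⊗ₜ[B] ε m) (fun m m' => by rw [map_add, tmul_add]))
        (fun c₀ c₀' => AddMonoidHom.ext fun m => by
          show e₂ (c₀ + c₀') ⊗ₜ[B] ε m = e₂ c₀ ⊗ₜ[B] ε m + e₂ c₀' ⊗ₜ[B] ε m
          rw [map_add, add_tmul]))
      (fun b c₀ m => by
        obtain ⟨z, rfl⟩ := hπ b
        obtain ⟨c₀, rfl⟩ := Ideal.Quotient.mk_surjective c₀
        show e₂ (π z • Ideal.Quotient.mk J' c₀) ⊗ₜ[B] ε m = e₂ (Ideal.Quotient.mk J' c₀) ⊗ₜ[B] ε (π z • m)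
        rw [hεsmul]
        refine Eq.trans ?_ (TensorProduct.smul_tmul (Ideal.Quotient.mk Kσ z) _ (ε m))
        rw [Algebra.smul_def, ← hφ'mk]
        rfl)
    have h1 := congrArg Tr hm₀'
    simp only [m₀, map_sum, map_zero] at h1
    rw [← h1]
    refine Finset.sum_congr rfl fun k _ => ?_
    show _ = e₂ (Ideal.Quotient.mk J' (c k)) ⊗ₜ[B] ε (jM ⟨g k, hgJ k⟩)
    rw [hεj]
    rfl
  -- `B` is étale over `A` off `V(I)`
  have hBa : ∀ a ∈ I, Algebra.Etale A (Localization.Away (algebraMap A B a)) := by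
    intro a ha
    haveI := hB₀ a ha
    let Ba := Localization.Away (algebraMap A B₀ a)
    let ι : B₀ →ₐ[A] Ba := IsScalarTower.toAlgHom A B₀ Ba
    let S := Localization.Away (algebraMap A B a)
    let r' : S →ₐ[A] Ba := IsLocalization.liftAlgHom (M := Submonoid.powers (algebraMap A B a)) (f := ι.comp toB₀) (by
      rintro ⟨_, m, rfl⟩
      show IsUnit (ι (toB₀ (algebraMap A B a ^ m)))
      rw [map_pow, map_pow, AlgHom.commutes]
      exact (IsLocalization.Away.algebraMap_isUnit (S := Ba) (algebraMap A B₀ a)).pow m)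
    have hr : ∀ b, r' (algebraMap B S b) = ι (toB₀ b) := fun b => IsLocalization.lift_eq _ _
    let JS : Ideal S := J.map (algebraMap A S)
    have hrJ : ∀ x ∈ JS, r' x = 0 := by
      intro x hx
      have : JS ≤ RingHom.ker r' := Ideal.map_le_iff_le_comap.mpr fun j hj => by
        rw [Ideal.mem_comap, RingHom.mem_ker, AlgHom.commutes,
          IsScalarTower.algebraMap_apply A B₀ Ba, hJB₀ j hj, map_zero]
      exact this hx
    let qe : (S ⧸ JS) →ₐ[A] Ba := Ideal.Quotient.liftₐ JS r' hrJ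
    have hqe : Function.Bijective qe := by
      refine ⟨(injective_iff_map_eq_zero qe).mpr fun x hx => ?_, fun b => ?_⟩
      · obtain ⟨x, rfl⟩ := Ideal.Quotient.mk_surjective x
        obtain ⟨⟨u, ⟨_, m, rfl⟩⟩, hu⟩ := IsLocalization.surj (Submonoid.powers (algebraMap A B a)) x
        have h1 : ι (toB₀ u) = 0 := by
          rw [← hr, ← hu, map_mul, show r' x = 0 from hx, zero_mul]
        obtain ⟨⟨_, m', rfl⟩, hm'⟩ := (IsLocalization.map_eq_zero_iff (Submonoid.powers (algebraMap A B₀ a)) Ba _).mp h1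
        have h2 : algebraMap A B a ^ m' * u ∈ JB := by
          rw [show JB = _ from hkerB.symm, RingHom.mem_ker]
          show toB₀ (algebraMap A B a ^ m' * u) = 0
          rw [map_mul, map_pow, AlgHom.commutes]
          exact hm'
        have h3' : algebraMap B S (algebraMap A B a ^ m' * u) ∈ JS := by
          have := Ideal.mem_map_of_mem (algebraMap B S) h2
          rwa [Ideal.map_map, ← IsScalarTower.algebraMap_eq] at this
        rw [map_mul, map_pow, ← hu] at h3'
        have hun := IsLocalization.Away.algebraMap_isUnit (S := S) (algebraMap A B a)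
        rw [Ideal.unit_mul_mem_iff_mem _ (hun.pow m')] at h3'
        exact Ideal.Quotient.eq_zero_iff_mem.mpr
          ((Ideal.mul_unit_mem_iff_mem _ (IsLocalization.map_units S (⟨_, m, rfl⟩ : Submonoid.powers (algebraMap A B a)))).mp h3')
      · obtain ⟨⟨u, ⟨_, m, rfl⟩⟩, hu⟩ := IsLocalization.surj (Submonoid.powers (algebraMap A B₀ a)) b
        obtain ⟨u, rfl⟩ := hsurjB u
        obtain ⟨inv, hinv⟩ := (IsLocalization.Away.algebraMap_isUnit (S := S) (algebraMap A B a)).pow m |>.exists_right_inv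
        refine ⟨Ideal.Quotient.mk JS (algebraMap B S u * inv), ?_⟩
        show r' (algebraMap B S u * inv) = b
        have h1 : ι (algebraMap A B₀ a) ^ m * r' inv = 1 := by
          have := congrArg r' hinv
          rwa [map_mul, map_pow, hr, map_one, AlgHom.commutes] at this
        rw [map_mul, hr, show ι (toB₀ u) = b * algebraMap B₀ Ba (algebraMap A B₀ a ^ m) from hu.symm, map_pow,
          show algebraMap B₀ Ba (algebraMap A B₀ a) = ι (algebraMap A B₀ a) from rfl, mul_assoc, h1, mul_one]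
    let q : (S ⧸ JS) ≃ₐ[A] Ba := AlgEquiv.ofBijective qe hqe
    let q' : (S ⧸ JS) ≃ₐ[A ⧸ J] Ba := AlgEquiv.ofRingEquiv (f := q.toRingEquiv) (fun x => by
      obtain ⟨x, rfl⟩ := Ideal.Quotient.mk_surjective x
      exact (q.commutes x).trans (IsScalarTower.algebraMap_apply A (A ⧸ J) Ba x))
    haveI : Algebra.Etale (A ⧸ J) (S ⧸ J.map (algebraMap A S)) := Algebra.Etale.of_equiv q'.symm
    refine Tools.etale_of_square_zero J hJ S fun μ hμ => ?_
    rw [injective_iff_map_eq_zero]
    intro z hz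
    let qJ := q.toLinearMap.rTensor J
    let emb : G →ₗ[A] Ba ⊗[A] J := ι.toLinearMap.rTensor J
    obtain ⟨N, x, hx⟩ := Tools.exists_pow_smul_eq (A := A) J (algebraMap A B₀ a) (qJ z)
    obtain ⟨b, rfl⟩ := hGnorm x
    have hx' : emb (∑ k, π (b k) ⊗ₜ[A] (⟨g k, hgJ k⟩ : J)) = a ^ N • qJ z := by
      rw [show emb _ = _ from hx, ← map_pow, ← map_pow, ← IsScalarTower.algebraMap_apply A B₀ Ba, algebraMap_smul]
    let qJ' := q.symm.toLinearMap.rTensor J
    have hqq : ∀ w, qJ' (qJ w) = w := fun w => by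
      induction w using TensorProduct.induction_on with
      | zero => simp
      | add u v hu hv => simp only [map_add, hu, hv]
      | tmul u j => simp [qJ, qJ']
    have h1 : μ (qJ' (emb (∑ k, π (b k) ⊗ₜ[A] (⟨g k, hgJ k⟩ : J)))) = 0 := by
      rw [hx', map_smul, hqq, map_smul, hz, smul_zero]
    have h2 : ∀ (p' : P) (j : J), μ (qJ' (emb (π p' ⊗ₜ[A] j))) =
        algebraMap B S (Ideal.Quotient.mk Kσ p' * algebraMap A B (j : A)) := by
      intro p' j
      show μ (q.symm (ι (π p')) ⊗ₜ[A] j) = _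
      rw [show ι (π p') = q (Ideal.Quotient.mk JS (algebraMap B S (Ideal.Quotient.mk Kσ p'))) from (hr (Ideal.Quotient.mk Kσ p')).symm,
        q.symm_apply_apply, hμ, map_mul, ← IsScalarTower.algebraMap_apply]
    have h3' : algebraMap B S (∑ k, Ideal.Quotient.mk Kσ (b k * MvPolynomial.C (g k))) = 0 := by
      rw [← h1, map_sum, map_sum, map_sum, map_sum]
      refine Finset.sum_congr rfl fun k _ => ?_
      rw [h2, map_mul (Ideal.Quotient.mk Kσ)]
      rfl
    obtain ⟨⟨_, m, rfl⟩, hm⟩ := (IsLocalization.map_eq_zero_iff (Submonoid.powers (algebraMap A B a)) S _).mp h3'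
    have h4 : ∑ k, π (MvPolynomial.C a ^ m * b k) • jM ⟨g k, hgJ k⟩ = 0 := by
      refine hBM _ ?_
      rw [← hm, Finset.mul_sum]
      refine Finset.sum_congr rfl fun k _ => ?_
      rw [mul_assoc, map_mul, map_pow]
      rfl
    have h5 : algebraMap A B₀ a ^ m • (∑ k, π (b k) ⊗ₜ[A] (⟨g k, hgJ k⟩ : J) : G) ∈ K' := by
      rw [← Submodule.Quotient.mk_eq_zero K', ← h4, Submodule.Quotient.mk_smul, ← Submodule.mkQ_apply, map_sum, Finset.smul_sum]
      refine Finset.sum_congr rfl fun k _ => ?_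
      rw [map_mul, map_pow, hπC, mul_smul]
      congr 1
      show _ = π (b k) • K'.mkQ ((1 : B₀) ⊗ₜ[A] _)
      rw [← map_smul, smul_tmul', smul_eq_mul, mul_one]
    have h6 := hkK _ h5 (algebraMap A B₀ a ^ kK) (Ideal.pow_mem_pow (Ideal.mem_map_of_mem _ ha) _)
    rw [smul_smul, ← map_pow, ← map_pow, ← map_mul, algebraMap_smul] at h6
    have h7 := congrArg emb h6
    rw [map_smul, hx', map_zero, smul_smul, ← algebraMap_smul Ba] at h7
    have h8 : qJ z = 0 := by
      refine (IsUnit.smul_eq_zero ?_).mp h7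
      rw [map_mul, map_mul, map_pow, map_pow, map_pow, IsScalarTower.algebraMap_apply A B₀ Ba]
      have hu := IsLocalization.Away.algebraMap_isUnit (S := Ba) (algebraMap A B₀ a)
      exact ((hu.pow _).mul (hu.pow _)).mul (hu.pow _)
    rw [← hqq z, h8, map_zero]
  exact ⟨B, inferInstance, inferInstance, inferInstance, inferInstance, inferInstance, inferInstance,
    inferInstance, hBC, hBa, hsurjB, hkerB, hcompat⟩

end Groth.Agent.H21.NilEtale.Sq
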