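import Groth.Agent.Lib.Henselian.EtaleLift
import Mathlib.RingTheory.Etale.Basic
import Mathlib.RingTheory.Smooth.Basic
import Mathlib.RingTheory.IsTensorProduct
import Mathlib.RingTheory.Flat.Basic
import Mathlib.RingTheory.TensorProduct.IsBaseChangePi
import Mathlib.Algebra.MvPolynomial.PDeriv

/-!
# Étale algebras along square-zero thickenings
-/

set_option autoImplicit false
set_option linter.style.haveILetI false

universe u v

open TensorProduct

namespace Groth.Agent.H21.NilEtale.Tools

/-- The multiplication `(S/JS) ⊗ J → S` exists for square-zero `J`. -/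
theorem exists_mulMap {R : Type u} [CommRing R] {J : Ideal R} (hJ : J * J = ⊥) (S : Type v) [CommRing S]
    [Algebra R S] :
    ∃ μ : (S ⧸ J.map (algebraMap R S)) ⊗[R] J →ₗ[R] S,
      ∀ (s : S) (j : J), μ (Ideal.Quotient.mk _ s ⊗ₜ j) = s * algebraMap R S j := by
  let b : S →ₗ[R] J →ₗ[R] S := LinearMap.mk₂ R (fun s j => s * algebraMap R S j)
    (fun _ _ _ => add_mul _ _ _) (fun c s j => by rw [Algebra.smul_def, Algebra.smul_def, mul_assoc])
    (fun s j j' => by simp [mul_add]) (fun c s j => by
      simp only [SetLike.val_smul, smul_eq_mul, map_mul, Algebra.smul_def]; ring)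
  have hb : (J.map (algebraMap R S)).restrictScalars R ≤ LinearMap.ker b := by
    intro s hs
    refine LinearMap.mem_ker.mpr (LinearMap.ext fun j => ?_)
    show s * algebraMap R S j = 0
    have h1 := Ideal.mul_mem_mul (show s ∈ J.map (algebraMap R S) from hs)
      (Ideal.mem_map_of_mem (algebraMap R S) j.2)
    rwa [← Ideal.map_mul, hJ, Ideal.map_bot, Ideal.mem_bot] at h1
  exact ⟨TensorProduct.lift ((Submodule.liftQ _ b hb).comp
    (Submodule.Quotient.restrictScalarsEquiv R _).symm.toLinearMap), fun s j => rfl⟩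

/-- An algebra over a square-zero thickening is étale if its reduction is, and `J` is not collapsed. -/
theorem etale_of_square_zero {R : Type u} [CommRing R] (J : Ideal R) (hJ : J * J = ⊥)
    (S : Type u) [CommRing S] [Algebra R S]
    [Algebra.Etale (R ⧸ J) (S ⧸ J.map (algebraMap R S))]
    (hinj : ∀ (μ : (S ⧸ J.map (algebraMap R S)) ⊗[R] J →ₗ[R] S),
      (∀ (s : S) (j : J), μ (Ideal.Quotient.mk _ s ⊗ₜ j) = s * algebraMap R S j) → Function.Injective μ) :
    Algebra.Etale R S := by
  obtain ⟨L, _, _, hL, ψ, hψ, hker⟩ :=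
    Groth.Agent.Lib.Henselian.EtaleLift.exists_etale_lift (A := R) J (S ⧸ J.map (algebraMap R S))
  have hnil : (J.map (algebraMap R S)) * J.map (algebraMap R S) = ⊥ := by
    rw [← Ideal.map_mul, hJ, Ideal.map_bot]
  let h : L →ₐ[R] S := Algebra.FormallySmooth.lift (J.map (algebraMap R S))
    ⟨2, by rw [pow_two, Submodule.zero_eq_bot, hnil]⟩ ψ
  have hh : ∀ l, Ideal.Quotient.mk (J.map (algebraMap R S)) (h l) = ψ l := fun l =>
    AlgHom.congr_fun (Algebra.FormallySmooth.comp_lift _ _ _) l
  obtain ⟨μ, hμ⟩ := exists_mulMap hJ S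
  obtain ⟨μL, hμL⟩ := exists_mulMap hJ L
  let qe : (L ⧸ J.map (algebraMap R L)) →ₐ[R] S ⧸ J.map (algebraMap R S) :=
    Ideal.Quotient.liftₐ _ ψ (fun l hl => hker.ge hl)
  let q : (L ⧸ J.map (algebraMap R L)) ≃ₐ[R] S ⧸ J.map (algebraMap R S) := AlgEquiv.ofBijective qe
    ⟨by
      rw [injective_iff_map_eq_zero]
      intro l hl
      obtain ⟨l, rfl⟩ := Ideal.Quotient.mk_surjective l
      exact Ideal.Quotient.eq_zero_iff_mem.mpr (hker.le (show ψ l = 0 from hl)),
     fun s => by
      obtain ⟨l, hl⟩ := hψ s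
      exact ⟨Ideal.Quotient.mk _ l, hl⟩⟩
  have hcomp : μ.comp (q.toLinearMap.rTensor J) = h.toLinearMap.comp μL := by
    refine TensorProduct.ext' fun l j => ?_
    obtain ⟨l, rfl⟩ := Ideal.Quotient.mk_surjective l
    show μ (q (Ideal.Quotient.mk _ l) ⊗ₜ j) = h (μL (Ideal.Quotient.mk _ l ⊗ₜ j))
    rw [hμL, show q (Ideal.Quotient.mk _ l) = Ideal.Quotient.mk _ (h l) from (hh l).symm, hμ,
      map_mul, AlgHom.commutes]
  have hrange : ∀ y ∈ J.map (algebraMap R L), ∃ z, μL z = y := by
    intro y hy
    have hy' : y ∈ (J.map (algebraMap R L)).restrictScalars R := hy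
    rw [← Ideal.smul_top_eq_map] at hy'
    refine Submodule.smul_induction_on hy' (fun j hj l _ => ?_) (fun a b ⟨za, ha⟩ ⟨zb, hb⟩ => ?_)
    · exact ⟨Ideal.Quotient.mk _ l ⊗ₜ ⟨j, hj⟩, by rw [hμL, Algebra.smul_def, mul_comm]⟩
    · exact ⟨za + zb, by rw [map_add, ha, hb]⟩
  have hbij : Function.Bijective h := by
    refine ⟨(injective_iff_map_eq_zero h).mpr fun y hy => ?_, fun s => ?_⟩
    · have hy1 : y ∈ J.map (algebraMap R L) := hker.le (show ψ y = 0 by rw [← hh, hy, map_zero])
      obtain ⟨z, rfl⟩ := hrange y hy1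
      have h1 : (μ.comp (q.toLinearMap.rTensor J)) z = 0 := by rw [hcomp]; exact hy
      have h2 : q.toLinearMap.rTensor J z = 0 := hinj μ hμ (by rw [map_zero]; exact h1)
      have h3 : z = 0 := by
        have h4 := congrArg (q.symm.toLinearMap.rTensor J) h2
        rw [map_zero, ← LinearMap.comp_apply, ← LinearMap.rTensor_comp] at h4
        have h5 : q.symm.toLinearMap.comp q.toLinearMap = LinearMap.id := LinearMap.ext fun x => q.symm_apply_apply x
        rwa [h5, LinearMap.rTensor_id, LinearMap.id_apply] at h4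
      rw [h3, map_zero]
    · obtain ⟨l, hl⟩ := hψ (Ideal.Quotient.mk _ s)
      rw [← hh, Ideal.Quotient.eq] at hl
      have hl' : h l - s ∈ (J.map (algebraMap R S)).restrictScalars R := hl
      rw [← Ideal.smul_top_eq_map] at hl'
      suffices hs : ∀ w ∈ (J • ⊤ : Submodule R S), ∃ z, h z = w by
        obtain ⟨z, hz⟩ := hs _ hl'
        exact ⟨l - z, by rw [map_sub, hz]; ring⟩
      intro w hw
      refine Submodule.smul_induction_on hw (fun j hj t _ => ?_) (fun a b ⟨za, ha⟩ ⟨zb, hb⟩ => ?_)
      · obtain ⟨l', hl'⟩ := hψ (Ideal.Quotient.mk _ t)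
        rw [← hh, Ideal.Quotient.eq] at hl'
        refine ⟨algebraMap R L j * l', ?_⟩
        have h1 := Ideal.mul_mem_mul (Ideal.mem_map_of_mem (algebraMap R S) hj) hl'
        rw [hnil, Ideal.mem_bot, mul_sub, sub_eq_zero] at h1
        rw [map_mul, AlgHom.commutes, h1, Algebra.smul_def]
      · exact ⟨za + zb, by rw [map_add, ha, hb]⟩
  exact Algebra.Etale.of_equiv (AlgEquiv.ofBijective h hbij)

/-- A tensor vanishing after inverting `a` is killed by a power of `a`. -/
theorem exists_pow_smul_eq_zero {A : Type u} [CommRing A] {S : Type u} [CommRing S] [Algebra A S]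
    (J : Type u) [AddCommGroup J] [Module A J] (a : S) (z : S ⊗[A] J)
    (h : ((IsScalarTower.toAlgHom A S (Localization.Away a)).toLinearMap.rTensor J) z = 0) :
    ∃ N : ℕ, a ^ N • z = 0 := by
  let Sa := Localization.Away a
  haveI : IsLocalizedModule (Submonoid.powers a) (TensorProduct.mk S Sa (S ⊗[A] J) 1) :=
    (isLocalizedModule_iff_isBaseChange (Submonoid.powers a) Sa _).mpr (TensorProduct.isBaseChange _ _ _)
  let e := TensorProduct.AlgebraTensorModule.cancelBaseChange A S Sa Sa J
  have he : ∀ w : S ⊗[A] J, e (1 ⊗ₜ w) = (IsScalarTower.toAlgHom A S Sa).toLinearMap.rTensor J w := by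
    intro w
    induction w using TensorProduct.induction_on with
    | zero => simp
    | tmul s j => simp [e, Sa, Algebra.smul_def]
    | add x y hx hy => simp only [tmul_add, map_add, hx, hy]
  have h1 : TensorProduct.mk S Sa (S ⊗[A] J) 1 z = 0 := e.injective (by rw [map_zero]; exact (he z).trans h)
  obtain ⟨⟨_, N, rfl⟩, hN⟩ := (IsLocalizedModule.eq_zero_iff (Submonoid.powers a) _).mp h1
  exact ⟨N, hN⟩

/-- Second order terms vanish. -/
theorem aeval_add {A : Type u} [CommRing A] {S : Type u} [CommRing S] [Algebra A S] {n : ℕ}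
    (x d : Fin n → S) (hd : ∀ i j, d i * d j = 0) (p : MvPolynomial (Fin n) A) :
    MvPolynomial.aeval (fun i => x i + d i) p =
      MvPolynomial.aeval x p + ∑ i, MvPolynomial.aeval x (MvPolynomial.pderiv i p) * d i := by
  classical
  induction p using MvPolynomial.induction_on with
  | C c => simp
  | add p q hp hq =>
    simp only [map_add, hp, hq, add_mul, Finset.sum_add_distrib]
    ring
  | mul_X p l hp =>
    have h1 : (∑ i, MvPolynomial.aeval x (MvPolynomial.pderiv i p) * d i) * d l = 0 := by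
      rw [Finset.sum_mul]
      exact Finset.sum_eq_zero fun i _ => by rw [mul_assoc, hd, mul_zero]
    have h2 : ∀ i, MvPolynomial.aeval x (MvPolynomial.pderiv i (p * MvPolynomial.X l)) * d i =
        (MvPolynomial.aeval x (MvPolynomial.pderiv i p) * d i) * x l +
          (if l = i then MvPolynomial.aeval x p * d i else 0) := by
      intro i
      rw [MvPolynomial.pderiv_mul, MvPolynomial.pderiv_X]
      rcases eq_or_ne l i with rfl | hli
      · simp only [Pi.single_eq_same, map_add, map_mul, MvPolynomial.aeval_X, if_pos, map_one]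
        ring
      · simp only [Pi.single_eq_of_ne hli, Pi.single_eq_of_ne hli.symm, map_add, map_mul, MvPolynomial.aeval_X, map_zero, if_neg hli]
        ring
    rw [map_mul, map_mul, MvPolynomial.aeval_X, MvPolynomial.aeval_X, hp]
    simp only [h2, Finset.sum_add_distrib, ← Finset.sum_mul, Finset.sum_ite_eq, Finset.mem_univ, if_true]
    linear_combination h1

end Groth.Agent.H21.NilEtale.Tools

namespace Groth.Agent.H21.NilEtale.Tools

/-- Clearing denominators in a tensor product. -/
theorem exists_pow_smul_eq {A : Type u} [CommRing A] {S : Type u} [CommRing S] [Algebra A S]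
    (J : Type u) [AddCommGroup J] [Module A J] (a : S) (y : Localization.Away a ⊗[A] J) :
    ∃ (N : ℕ) (g : S ⊗[A] J),
      (IsScalarTower.toAlgHom A S (Localization.Away a)).toLinearMap.rTensor J g =
        algebraMap S (Localization.Away a) a ^ N • y := by
  let Sa := Localization.Away a
  haveI : IsLocalizedModule (Submonoid.powers a) (TensorProduct.mk S Sa (S ⊗[A] J) 1) :=
    (isLocalizedModule_iff_isBaseChange (Submonoid.powers a) Sa _).mpr (TensorProduct.isBaseChange _ _ _)
  let e := TensorProduct.AlgebraTensorModule.cancelBaseChange A S Sa Sa J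
  have he : ∀ w : S ⊗[A] J, e (1 ⊗ₜ w) = (IsScalarTower.toAlgHom A S Sa).toLinearMap.rTensor J w := by
    intro w
    induction w using TensorProduct.induction_on with
    | zero => simp
    | tmul s j => simp [e, Sa, Algebra.smul_def]
    | add x y hx hy => simp only [tmul_add, map_add, hx, hy]
  obtain ⟨⟨g, ⟨_, N, rfl⟩⟩, hg⟩ :=
    IsLocalizedModule.surj (Submonoid.powers a) (TensorProduct.mk S Sa (S ⊗[A] J) 1) (e.symm y)
  refine ⟨N, g, ?_⟩
  rw [← he g, show (1 : Sa) ⊗ₜ[S] g = TensorProduct.mk S Sa (S ⊗[A] J) 1 g from rfl, ← hg, Submonoid.smul_def,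
    ← algebraMap_smul Sa, map_pow, map_smul, e.apply_symm_apply]

end Groth.Agent.H21.NilEtale.Tools
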